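import Mathlib
import Cfsg.Prelude.Def_Solvable

set_option autoImplicit false

namespace Cfsg.Agent.Lib.Helper71

open Subgroup

/-- In a finite nilpotent group, `y ^ [N : K] ∈ K` for every subgroup `K`. -/
theorem pow_index_mem_of_isNilpotent {N : Type*} [Group N] [Finite N] [Group.IsNilpotent N]
    (K : Subgroup N) (y : N) : y ^ K.index ∈ K := by
  induction h : K.index using Nat.strong_induction_on generalizing K with
  | _ n ih =>
    by_cases hK : K = ⊤
    · rw [hK]; trivial
    · have hlt : K < Subgroup.normalizer (K : Set N) :=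
        Group.normalizerCondition_of_isNilpotent K (lt_top_iff_ne_top.mpr hK)
      have hidx : (Subgroup.normalizer (K : Set N)).index < n := by
        rw [← h]; exact Subgroup.index_strictAnti hlt
      have h1 := ih _ hidx _ rfl
      have h2 : (⟨y ^ (Subgroup.normalizer (K : Set N)).index, h1⟩ :
          Subgroup.normalizer (K : Set N)) ^ (K.subgroupOf (Subgroup.normalizer (K : Set N))).index
            ∈ K.subgroupOf (Subgroup.normalizer (K : Set N)) :=
        Subgroup.pow_index_mem _ _
      rw [Subgroup.mem_subgroupOf] at h2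
      have h3 := Subgroup.relIndex_mul_index hlt.le
      rw [← h, ← h3, mul_comm, pow_mul]
      simpa [Subgroup.relIndex] using h2

/-- `[N : H ∩ N]` divides `[G : H]` when `N` is normal (finite group). -/
theorem relIndex_dvd_index_of_normal_right {G : Type*} [Group G] [Finite G]
    (H N : Subgroup G) [N.Normal] : H.relIndex N ∣ H.index := by
  have h1 : H.relIndex (H ⊔ N) = H.relIndex N := by
    have e1 : N.relIndex (H ⊔ N) = N.relIndex H := Subgroup.relIndex_sup_right H N
    have e2 : N.relIndex (H ⊔ N) * Nat.card N = Nat.card (H ⊔ N : Subgroup G) := by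
      have := Subgroup.relIndex_mul_relIndex ⊥ N (H ⊔ N) bot_le le_sup_right
      simpa [mul_comm] using this
    have e3 : H.relIndex (H ⊔ N) * Nat.card H = Nat.card (H ⊔ N : Subgroup G) := by
      have := Subgroup.relIndex_mul_relIndex ⊥ H (H ⊔ N) bot_le le_sup_left
      simpa [mul_comm] using this
    have e4 : N.relIndex H * Nat.card (H ⊓ N : Subgroup G) = Nat.card H := by
      have := Subgroup.relIndex_mul_relIndex ⊥ (H ⊓ N) H bot_le inf_le_left
      rw [Subgroup.inf_relIndex_left] at this
      simpa [mul_comm] using this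
    have e5 : H.relIndex N * Nat.card (H ⊓ N : Subgroup G) = Nat.card N := by
      have := Subgroup.relIndex_mul_relIndex ⊥ (H ⊓ N) N bot_le inf_le_right
      rw [Subgroup.inf_relIndex_right] at this
      simpa [mul_comm] using this
    have hpos : 0 < Nat.card H := Nat.card_pos
    apply Nat.eq_of_mul_eq_mul_right hpos
    rw [e3, ← e2, e1, ← e5, ← e4]
    ring
  rw [← h1]
  exact Subgroup.relIndex_dvd_index_of_le le_sup_left

/-- If `y` lies in a normal nilpotent subgroup of the finite group `G`, then `y ^ [G : H] ∈ H` for every `H`. -/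
theorem pow_index_mem_of_mem_normal_nilpotent {G : Type*} [Group G] [Finite G]
    (N : Subgroup G) [N.Normal] (hN : Group.IsNilpotent N) (H : Subgroup G) {y : G} (hy : y ∈ N) :
    y ^ H.index ∈ H := by
  have h1 : (⟨y, hy⟩ : N) ^ (H.subgroupOf N).index ∈ H.subgroupOf N :=
    pow_index_mem_of_isNilpotent _ _
  rw [Subgroup.mem_subgroupOf] at h1
  obtain ⟨c, hc⟩ := relIndex_dvd_index_of_normal_right H N
  rw [hc, pow_mul]
  exact H.pow_mem (by simpa [Subgroup.relIndex] using h1) c

/-- A normal `p`-subgroup lies in every Sylow `p`-subgroup. -/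
theorem normal_pGroup_le_sylow {G : Type*} [Group G] [Finite G] {p : ℕ} [Fact p.Prime]
    (N : Subgroup G) [hn : N.Normal] (hN : IsPGroup p N) (P : Sylow p G) : N ≤ P := by
  obtain ⟨Q, hQ⟩ := hN.exists_le_sylow
  obtain ⟨g, rfl⟩ := MulAction.exists_smul_eq G Q P
  intro x hx
  rw [Sylow.coe_subgroup_smul, Subgroup.mem_pointwise_smul_iff_inv_smul_mem]
  apply hQ
  simpa [MulAut.smul_def] using hn.conj_mem x hx g⁻¹

/-- If `z ^ [G : P] ∈ H` for all Sylow subgroups `P` (all primes), then `z ∈ H`. -/
theorem mem_of_forall_sylow_pow_index_mem {G : Type*} [Group G] [Finite G] (H : Subgroup G) (z : G)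
    (h : ∀ (p : ℕ) [Fact p.Prime] (P : Sylow p G), z ^ (P : Subgroup G).index ∈ H) : z ∈ H := by
  classical
  have hex : ∃ k : ℕ, 0 < k ∧ z ^ k ∈ H :=
    ⟨orderOf z, orderOf_pos z, by rw [pow_orderOf_eq_one]; exact H.one_mem⟩
  set k := Nat.find hex with hk
  have hk1 : 0 < k ∧ z ^ k ∈ H := Nat.find_spec hex
  have hdvd : ∀ n : ℕ, z ^ n ∈ H → k ∣ n := by
    intro n hn
    have hr : z ^ (n % k) ∈ H := by
      have e : z ^ n = z ^ (n % k) * (z ^ k) ^ (n / k) := by
        rw [← pow_mul, ← pow_add, Nat.mod_add_div]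
      have : z ^ (n % k) = z ^ n * ((z ^ k) ^ (n / k))⁻¹ := by rw [e]; group
      rw [this]
      exact H.mul_mem hn (H.inv_mem (H.pow_mem hk1.2 _))
    by_contra hnd
    have hpos : 0 < n % k := Nat.pos_of_ne_zero (fun h0 => hnd (Nat.dvd_of_mod_eq_zero h0))
    exact Nat.find_min hex (Nat.mod_lt n hk1.1) ⟨hpos, hr⟩
  by_cases hk' : k = 1
  · have := hk1.2; rwa [hk', pow_one] at this
  · exfalso
    obtain ⟨p, hp, hpk⟩ := Nat.exists_prime_and_dvd hk'
    have : Fact p.Prime := ⟨hp⟩
    obtain ⟨P⟩ : Nonempty (Sylow p G) := inferInstance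
    exact P.not_dvd_index (hpk.trans (hdvd _ (h p P)))

/-- The join of two normal subgroups of order prime to `p` has order prime to `p`. -/
theorem card_sup_coprime {G : Type*} [Group G] [Finite G] (p : ℕ) (A B : Subgroup G) [B.Normal]
    (hA : (Nat.card A).Coprime p) (hB : (Nat.card B).Coprime p) :
    (Nat.card (A ⊔ B : Subgroup G)).Coprime p := by
  have e1 : B.relIndex (A ⊔ B) = B.relIndex A := Subgroup.relIndex_sup_right A B
  have e2 : B.relIndex (A ⊔ B) * Nat.card B = Nat.card (A ⊔ B : Subgroup G) := by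
    have := Subgroup.relIndex_mul_relIndex ⊥ B (A ⊔ B) bot_le le_sup_right
    simpa [mul_comm] using this
  have e3 : B.relIndex A ∣ Nat.card A := by
    have := (B.subgroupOf A).card_mul_index
    exact Dvd.intro_left _ this
  rw [← e2, e1]
  exact Nat.Coprime.mul_left (Nat.Coprime.coprime_dvd_left e3 hA) hB

/-- `O_{p'}(G)` has order prime to `p` in a finite group. -/
theorem card_pPrimeCore_coprime {G : Type*} [Group G] [Finite G] (p : ℕ) :
    (Nat.card (Cfsg.pPrimeCore p G)).Coprime p := by
  classical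
  have hfin : ({N : Subgroup G | N.Normal ∧ (Nat.card N).Coprime p}).Finite := Set.toFinite _
  have key : ∀ s : Set (Subgroup G), s.Finite → (∀ N ∈ s, N.Normal ∧ (Nat.card N).Coprime p) →
      (sSup s).Normal ∧ (Nat.card (sSup s : Subgroup G)).Coprime p := by
    intro s hs
    induction s, hs using Set.Finite.induction_on with
    | empty =>
      intro _
      rw [sSup_empty]
      exact ⟨inferInstance, by simp⟩
    | insert _ _ ih =>
      intro hall
      rw [sSup_insert]
      have h1 := hall _ (Set.mem_insert _ _)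
      have h2 := ih (fun N hN => hall N (Set.mem_insert_of_mem _ hN))
      have := h1.1
      have := h2.1
      exact ⟨inferInstance, card_sup_coprime p _ _ h1.2 h2.2⟩
  exact (key _ hfin (fun N hN => hN)).2

/-- The normal core of a Sylow `p`-subgroup is a nilpotent normal subgroup, so lies in `F(G)`. -/
theorem sylow_normalCore_le_fitting {G : Type*} [Group G] [Finite G] {p : ℕ} [Fact p.Prime]
    (P : Sylow p G) : (P : Subgroup G).normalCore ≤ Cfsg.fittingSubgroup G := by
  apply le_sSup
  refine ⟨inferInstance, ?_⟩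
  have : IsPGroup p (P : Subgroup G).normalCore := P.isPGroup'.to_le (Subgroup.normalCore_le _)
  exact this.isNilpotent

/-- For `x ∈ F(G)` and a Sylow `p`-subgroup `P`, the power `x ^ [G : P]` lies in the core of `P`. -/
theorem pow_sylow_index_mem_normalCore_of_mem_fitting {G : Type*} [Group G] [Finite G] {p : ℕ}
    [hp : Fact p.Prime] (P : Sylow p G) {x : G} (hx : x ∈ Cfsg.fittingSubgroup G) :
    x ^ (P : Subgroup G).index ∈ (P : Subgroup G).normalCore := by
  set O := (P : Subgroup G).normalCore with hO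
  set φ := QuotientGroup.mk' O with hφ
  have hsurj : Function.Surjective φ := QuotientGroup.mk'_surjective O
  have hE := card_pPrimeCore_coprime (G := G ⧸ O) p
  have hle : Cfsg.fittingSubgroup G ≤ (Cfsg.pPrimeCore p (G ⧸ O)).comap φ := by
    apply sSup_le
    rintro N ⟨hNn, hNnil⟩
    rw [← Subgroup.map_le_iff_le_comap]
    apply le_sSup
    refine ⟨hNn.map φ hsurj, ?_⟩
    obtain ⟨S⟩ : Nonempty (Sylow p N) := inferInstance
    have hSn : (S : Subgroup N).Normal := inferInstance
    have hSc : (S : Subgroup N).Characteristic := S.characteristic_of_normal hSn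
    have hS'n : ((S : Subgroup N).map N.subtype).Normal := inferInstance
    have hS'p : IsPGroup p ((S : Subgroup N).map N.subtype) := S.isPGroup'.map _
    have hS'P : (S : Subgroup N).map N.subtype ≤ P := normal_pGroup_le_sylow _ hS'p P
    have hS'O : (S : Subgroup N).map N.subtype ≤ O := Subgroup.normal_le_normalCore.mpr hS'P
    have h1 : Nat.card (N.map φ) = O.relIndex N := by
      rw [← Subgroup.relIndex_ker, hφ, QuotientGroup.ker_mk']
    have h2 : O.relIndex N ∣ ((S : Subgroup N).map N.subtype).relIndex N :=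
      Subgroup.relIndex_dvd_of_le_left N hS'O
    have h3 : ((S : Subgroup N).map N.subtype).relIndex N = (S : Subgroup N).index := by
      rw [Subgroup.relIndex, Subgroup.subgroupOf,
        Subgroup.comap_map_eq_self_of_injective N.subtype_injective]
    rw [h1]
    rw [h3] at h2
    have h4 : ¬ p ∣ O.relIndex N := fun h => S.not_dvd_index (h.trans h2)
    exact ((Nat.Prime.coprime_iff_not_dvd hp.out).mpr h4).symm
  have hxE : φ x ∈ Cfsg.pPrimeCore p (G ⧸ O) := hle hx
  have h5 : (φ x) ^ Nat.card (Cfsg.pPrimeCore p (G ⧸ O)) = 1 := by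
    have h1 : (⟨φ x, hxE⟩ : Cfsg.pPrimeCore p (G ⧸ O)) ^ Nat.card (Cfsg.pPrimeCore p (G ⧸ O)) = 1 :=
      pow_card_eq_one'
    have h2 := congrArg Subtype.val h1
    rwa [Subgroup.coe_pow, Subgroup.coe_one] at h2
  have h6 : Nat.card (Cfsg.pPrimeCore p (G ⧸ O)) ∣ (P : Subgroup G).index := by
    have h7 : Nat.card (Cfsg.pPrimeCore p (G ⧸ O)) ∣ O.index := Subgroup.card_subgroup_dvd_card _
    rw [← Subgroup.relIndex_mul_index (Subgroup.normalCore_le (P : Subgroup G))] at h7
    obtain ⟨n, hn⟩ := P.isPGroup'.index (O.subgroupOf P)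
    have h8 : O.relIndex P = p ^ n := hn
    rw [← hO, h8] at h7
    exact (Nat.Coprime.pow_right n hE).dvd_of_dvd_mul_left h7
  obtain ⟨c, hc⟩ := h6
  have h9 : φ (x ^ (P : Subgroup G).index) = 1 := by
    rw [map_pow, hc, pow_mul, h5, one_pow]
  exact (QuotientGroup.eq_one_iff _).mp h9

end Cfsg.Agent.Lib.Helper71
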