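import Mathlib
import Cfsg.Agent.Lib.Helper71.CCEngine3
import Cfsg.Agent.Lib.Helper6.ZasFeit2

set_option autoImplicit false
set_option linter.unusedSectionVars false

/-! CC-engine: `G` is a Zassenhaus group on the cosets of `N(A)`; Feit's bound. -/

namespace Cfsg.Agent.Lib.Helper71.CC

open Cfsg.Agent.Lib.Helper19 MulAction

variable {G : Type*} [Group G]

section cosets

variable {H : Subgroup G}

theorem smk (a g : G) : a • (QuotientGroup.mk g : G ⧸ H) = QuotientGroup.mk (a * g) := by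
  rw [MulAction.Quotient.smul_mk, smul_eq_mul]

theorem fixiff (d g : G) : d • (QuotientGroup.mk g : G ⧸ H) = QuotientGroup.mk g ↔ g⁻¹ * d * g ∈ H := by
  rw [smk, QuotientGroup.eq]
  have e : (d * g)⁻¹ * g = (g⁻¹ * d * g)⁻¹ := by group
  rw [e, inv_mem_iff]

theorem mk_eq_one_iff (g : G) : (QuotientGroup.mk g : G ⧸ H) = QuotientGroup.mk 1 ↔ g ∈ H := by
  rw [QuotientGroup.eq, mul_one, inv_mem_iff]

theorem fix_one_iff (n : G) : n • (QuotientGroup.mk 1 : G ⧸ H) = QuotientGroup.mk 1 ↔ n ∈ H := by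
  rw [smk, mul_one, mk_eq_one_iff]

end cosets

namespace CCS

variable {A : Subgroup G} {z : G} [Finite G]

theorem stab_trans (h : CCS A z) (h2 : ∃ t ∈ A, t ≠ 1 ∧ t * t = 1 ∧ t ≠ z) {u : G}
    (hu : u * u = 1) (huH : u ∉ HA A) (x : G ⧸ HA A) (hx : x ≠ QuotientGroup.mk 1) :
    ∃ t ∈ A, t • (QuotientGroup.mk u : G ⧸ HA A) = x := by
  obtain ⟨g, rfl⟩ := QuotientGroup.mk_surjective x
  have hg : g ∉ HA A := fun hh => hx ((mk_eq_one_iff g).mpr hh)
  obtain ⟨t, ht, htg⟩ := h.A_trans h2 hu huH hg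
  refine ⟨t, ht, ?_⟩
  rw [smk]
  exact (QuotientGroup.eq.mpr htg).symm

theorem A_fix (_h : CCS A z) {t : G} (ht : t ∈ A) :
    t • (QuotientGroup.mk 1 : G ⧸ HA A) = QuotientGroup.mk 1 :=
  (fix_one_iff t).mpr (A_le ht)

theorem A_free (h : CCS A z) {t : G} (ht : t ∈ A) (x : G ⧸ HA A) (hx : x ≠ QuotientGroup.mk 1)
    (htx : t • x = x) : t = 1 := by
  obtain ⟨g, rfl⟩ := QuotientGroup.mk_surjective x
  have hg : g ∉ HA A := fun hh => hx ((mk_eq_one_iff g).mpr hh)
  exact h.D_inf_A hg (mem_DA_iff.mpr ⟨A_le ht, (fixiff t g).mp htx⟩) ht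

theorem two_trans (h : CCS A z) (h2 : ∃ t ∈ A, t ≠ 1 ∧ t * t = 1 ∧ t ≠ z)
    {a b c d : G ⧸ HA A} (hab : a ≠ b) (hcd : c ≠ d) : ∃ g : G, g • a = c ∧ g • b = d := by
  obtain ⟨u, -, hu, huH⟩ := h.exists_invol_not_mem
  obtain ⟨ga, rfl⟩ := QuotientGroup.mk_surjective a
  obtain ⟨gc, rfl⟩ := QuotientGroup.mk_surjective c
  have ha : ga⁻¹ • (QuotientGroup.mk ga : G ⧸ HA A) = QuotientGroup.mk 1 := by
    rw [smk, inv_mul_cancel]
  have hc : gc⁻¹ • (QuotientGroup.mk gc : G ⧸ HA A) = QuotientGroup.mk 1 := by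
    rw [smk, inv_mul_cancel]
  have hb : ga⁻¹ • b ≠ QuotientGroup.mk 1 := by
    rw [← ha]; exact fun hh => hab (smul_left_cancel _ hh).symm
  have hd : gc⁻¹ • d ≠ QuotientGroup.mk 1 := by
    rw [← hc]; exact fun hh => hcd (smul_left_cancel _ hh).symm
  obtain ⟨t₁, ht₁, h₁⟩ := h.stab_trans h2 hu huH _ hb
  obtain ⟨t₂, ht₂, h₂⟩ := h.stab_trans h2 hu huH _ hd
  refine ⟨gc * t₂ * t₁⁻¹ * ga⁻¹, ?_, ?_⟩
  · rw [mul_smul, ha, mul_smul, (inv_smul_eq_iff.mpr (h.A_fix ht₁).symm), mul_smul, h.A_fix ht₂, ← hc,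
      smul_inv_smul]
  · rw [mul_smul, ← h₁, mul_smul, inv_smul_smul, mul_smul, h₂, smul_inv_smul]

theorem three_fix (h : CCS A z) (h2 : ∃ t ∈ A, t ≠ 1 ∧ t * t = 1 ∧ t ≠ z)
    (g : G) (a b c : G ⧸ HA A) (hab : a ≠ b) (hbc : b ≠ c) (hac : a ≠ c)
    (ha : g • a = a) (hb : g • b = b) (hc : g • c = c) : g = 1 := by
  obtain ⟨u, -, hu, huH⟩ := h.exists_invol_not_mem
  have hu1 : (QuotientGroup.mk 1 : G ⧸ HA A) ≠ QuotientGroup.mk u :=
    fun hh => huH ((mk_eq_one_iff u).mp hh.symm)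
  obtain ⟨x, hxa, hxb⟩ := h.two_trans h2 hab hu1
  obtain ⟨k, hk⟩ := QuotientGroup.mk_surjective (x • c)
  have fixc : ∀ p : G ⧸ HA A, g • p = p → (x * g * x⁻¹) • (x • p) = x • p := by
    intro p hp
    rw [mul_smul, mul_smul, inv_smul_smul, hp]
  have h1 := fixc a ha
  have h2' := fixc b hb
  have h3 := fixc c hc
  rw [hxa] at h1
  rw [hxb] at h2'
  rw [← hk] at h3
  have hkH : k ∉ HA A := by
    intro hh
    apply hac
    apply smul_left_cancel x
    rw [hxa, ← hk]; exact ((mk_eq_one_iff k).mpr hh).symm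
  have hD : x * g * x⁻¹ ∈ DA A u :=
    mem_DA_iff.mpr ⟨(fix_one_iff _).mp h1, (fixiff _ u).mp h2'⟩
  by_contra hg1
  have hne : x * g * x⁻¹ ≠ 1 := conj_ne_one hg1
  have h4 := h.fix_elt h2 hu huH hkH hD hne ((fixiff _ k).mp h3)
  apply hbc
  apply smul_left_cancel x
  rw [hxb, ← hk]
  exact (QuotientGroup.eq.mpr h4).symm

theorem exists_three (h : CCS A z) : ∃ a b c : G ⧸ HA A, a ≠ b ∧ b ≠ c ∧ a ≠ c := by
  obtain ⟨u, -, hu, huH⟩ := h.exists_invol_not_mem
  have hu1 : (QuotientGroup.mk u : G ⧸ HA A) ≠ QuotientGroup.mk 1 :=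
    fun hh => huH ((mk_eq_one_iff u).mp hh)
  refine ⟨QuotientGroup.mk 1, QuotientGroup.mk u, z • QuotientGroup.mk u, hu1.symm, ?_, ?_⟩
  · intro hh
    exact h.z1 (h.A_free h.zA _ hu1 hh.symm)
  · intro hh
    rw [← h.A_fix h.zA] at hh
    exact hu1 (smul_left_cancel z hh).symm

theorem faithful (h : CCS A z) (h2 : ∃ t ∈ A, t ≠ 1 ∧ t * t = 1 ∧ t ≠ z) :
    FaithfulSMul G (G ⧸ HA A) := by
  refine ⟨fun {g₁ g₂} hg => ?_⟩
  have hall : ∀ x : G ⧸ HA A, (g₂⁻¹ * g₁) • x = x := by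
    intro x
    rw [mul_smul, hg x, inv_smul_smul]
  obtain ⟨a, b, c, hab, hbc, hac⟩ := h.exists_three
  have := h.three_fix h2 (g₂⁻¹ * g₁) a b c hab hbc hac (hall _) (hall _) (hall _)
  exact (inv_mul_eq_one.mp this).symm

/-- `G` is a Zassenhaus group on `G ⧸ N(A)` unless it has a normal complement to `N(A)`. -/
theorem zassenhaus (h : CCS A z) (h2 : ∃ t ∈ A, t ≠ 1 ∧ t * t = 1 ∧ t ≠ z)
    (hreg : ∀ N : Subgroup G, N.Normal → N ⊓ HA A = ⊥ → (∀ g : G, ∃ n ∈ N, n⁻¹ * g ∈ HA A) → False) :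
    Cfsg.IsZassenhausGroup G (G ⧸ HA A) := by
  refine ⟨h.faithful h2, MulAction.is_two_pretransitive_iff.mpr (fun hab hcd => h.two_trans h2 hab hcd),
    h.three_fix h2, ?_, ?_⟩
  · obtain ⟨u, -, hu, huH⟩ := h.exists_invol_not_mem
    obtain ⟨d, hd, hd1⟩ := h.exists_D_ne_one h2 hu huH
    obtain ⟨hdH, hdu⟩ := mem_DA_iff.mp hd
    exact ⟨d, hd1, QuotientGroup.mk 1, QuotientGroup.mk u,
      fun hh => huH ((mk_eq_one_iff u).mp hh.symm), (fix_one_iff d).mpr hdH, (fixiff d u).mpr hdu⟩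
  · intro N hN htr
    by_contra hcon
    push Not at hcon
    apply hreg N hN
    · rw [eq_bot_iff]
      intro n hn
      obtain ⟨hn1, hn2⟩ := Subgroup.mem_inf.mp hn
      have h1 : (⟨n, hn1⟩ : N) ∈ stabilizer N (QuotientGroup.mk 1 : G ⧸ HA A) := by
        rw [mem_stabilizer_iff]
        exact (fix_one_iff n).mpr hn2
      have h3 : (⟨n, hn1⟩ : N) ∈ (⊥ : Subgroup N) := (hcon _) ▸ h1
      exact congrArg Subtype.val (Subgroup.mem_bot.mp h3)
    · intro g
      obtain ⟨n, hn⟩ := htr.exists_smul_eq (QuotientGroup.mk 1 : G ⧸ HA A) (QuotientGroup.mk g)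
      refine ⟨n, n.2, ?_⟩
      have h1 : (n : G) • (QuotientGroup.mk 1 : G ⧸ HA A) = QuotientGroup.mk g := hn
      rw [smk, mul_one] at h1
      exact QuotientGroup.eq.mp h1

theorem A_reg (h : CCS A z) (h2 : ∃ t ∈ A, t ≠ 1 ∧ t * t = 1 ∧ t ≠ z) (x y : G ⧸ HA A)
    (hx : x ≠ QuotientGroup.mk 1) (hy : y ≠ QuotientGroup.mk 1) : ∃! t : A, (t : G) • x = y := by
  obtain ⟨u, -, hu, huH⟩ := h.exists_invol_not_mem
  obtain ⟨t₁, ht₁, h₁⟩ := h.stab_trans h2 hu huH _ hx
  obtain ⟨t₂, ht₂, h₂⟩ := h.stab_trans h2 hu huH _ hy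
  refine ⟨⟨t₂ * t₁⁻¹, mul_mem ht₂ (inv_mem ht₁)⟩, ?_, ?_⟩
  · show (t₂ * t₁⁻¹) • x = y
    rw [← h₁, mul_smul, inv_smul_smul, h₂]
  · intro s hs
    have hs' : (s : G) • x = y := hs
    have h3 : ((t₂ * t₁⁻¹)⁻¹ * (s : G)) • x = x := by
      rw [mul_smul, hs', inv_smul_eq_iff, ← h₁, mul_smul, inv_smul_smul, h₂]
    have h4 := h.A_free (mul_mem (inv_mem (mul_mem ht₂ (inv_mem ht₁))) s.2) x hx h3
    exact Subtype.ext (inv_mul_eq_one.mp h4).symm

theorem card_cosets (h : CCS A z) (h2 : ∃ t ∈ A, t ≠ 1 ∧ t * t = 1 ∧ t ≠ z) :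
    Nat.card A + 1 = Nat.card (G ⧸ HA A) := by
  classical
  obtain ⟨u, -, hu, huH⟩ := h.exists_invol_not_mem
  have hu1 : (QuotientGroup.mk u : G ⧸ HA A) ≠ QuotientGroup.mk 1 :=
    fun hh => huH ((mk_eq_one_iff u).mp hh)
  let f : Option A → G ⧸ HA A := fun o => o.elim (QuotientGroup.mk 1) (fun t => (t : G) • QuotientGroup.mk u)
  have hne : ∀ t : A, (t : G) • (QuotientGroup.mk u : G ⧸ HA A) ≠ QuotientGroup.mk 1 := by
    intro t hh
    rw [← h.A_fix t.2] at hh
    exact hu1 (smul_left_cancel _ hh)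
  have hf : Function.Bijective f := by
    constructor
    · intro x y hxy
      cases x with
      | none =>
        cases y with
        | none => rfl
        | some y => exact absurd hxy.symm (hne y)
      | some x =>
        cases y with
        | none => exact absurd hxy (hne x)
        | some y =>
          obtain ⟨t, -, huniq⟩ := h.A_reg h2 _ _ hu1 (hne y)
          have h1 := huniq x hxy
          have h2 := huniq y rfl
          rw [h1, h2]
    · intro x
      by_cases hx : x = QuotientGroup.mk 1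
      · exact ⟨none, hx.symm⟩
      · obtain ⟨t, ht, htx⟩ := h.stab_trans h2 hu huH x hx
        exact ⟨some ⟨t, ht⟩, htx⟩
  rw [← Nat.card_congr (Equiv.ofBijective f hf), Finite.card_option]

theorem stab_inf_eq (_h : CCS A z) (u : G) :
    stabilizer G (QuotientGroup.mk 1 : G ⧸ HA A) ⊓ stabilizer G (QuotientGroup.mk u : G ⧸ HA A)
      = DA A u := by
  ext d
  rw [Subgroup.mem_inf, mem_stabilizer_iff, mem_stabilizer_iff, mem_DA_iff, fix_one_iff, fixiff]

/-- Feit's bound: `A` is an elementary abelian 2-group or a non-abelian 2-group. -/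
theorem feit (h : CCS A z) (h2 : ∃ t ∈ A, t ≠ 1 ∧ t * t = 1 ∧ t ≠ z)
    (hZ : Cfsg.IsZassenhausGroup G (G ⧸ HA A)) :
    (∀ a ∈ A, a * a = 1) ∨ (IsPGroup 2 A ∧ ∃ u v : A, u * v ≠ v * u) := by
  classical
  have : Fintype (G ⧸ HA A) := Fintype.ofFinite _
  obtain ⟨u, -, hu, huH⟩ := h.exists_invol_not_mem
  have hu1 : (QuotientGroup.mk 1 : G ⧸ HA A) ≠ QuotientGroup.mk u :=
    fun hh => huH ((mk_eq_one_iff u).mp hh.symm)
  have hcard : Nat.card A + 1 = Fintype.card (G ⧸ HA A) := by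
    rw [← Nat.card_eq_fintype_card]; exact h.card_cosets h2
  have he : Nat.card ↥(stabilizer G (QuotientGroup.mk 1 : G ⧸ HA A) ⊓
      stabilizer G (QuotientGroup.mk u : G ⧸ HA A) : Subgroup G) = Nat.card (DA A u) := by
    rw [h.stab_inf_eq u]
  have hAle : A ≤ stabilizer G (QuotientGroup.mk 1 : G ⧸ HA A) := by
    intro t ht
    exact h.A_fix ht
  have hfix : ∀ t ∈ A, t ≠ 1 → ∀ c : G ⧸ HA A, t • c = c → c = QuotientGroup.mk 1 := by
    intro t ht ht1 c hc
    by_contra hc1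
    exact ht1 (h.A_free ht c hc1 hc)
  have hb := Cfsg.Agent.Lib.Helper6.Zas.base_of_zassenhaus hZ
  have hdvd := hb.card_stab2_dvd hu1 hcard.symm
  rw [he] at hdvd
  rcases Cfsg.Agent.Lib.Helper6.Zas.feit_general _ G rfl hZ hu1 (Nat.card A) (Nat.card (DA A u))
    hcard.symm he (h.D_odd huH) A hAle hcard hfix with h1 | ⟨h1, h3, -⟩
  · left
    -- `|A| - 1 = |D|`
    have hAeven : 2 ∣ Nat.card A := by
      have h4 : orderOf (⟨z, h.zA⟩ : A) = 2 := by
        apply orderOf_eq_prime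
        · rw [pow_two]; exact Subtype.ext h.zz
        · intro hh; exact h.z1 (congrArg Subtype.val hh)
      rw [← h4]; exact orderOf_dvd_natCard _
    obtain ⟨k, hk⟩ := hdvd
    have hDpos : 0 < Nat.card (DA A u) := Nat.card_pos
    have hApos : 0 < Nat.card A := Nat.card_pos
    have hk1 : k = 1 := by
      have hk0 : k ≠ 0 := by
        rintro rfl
        obtain ⟨m, hm⟩ := hAeven
        omega
      have hk2 : k ≤ 2 := by
        by_contra hcon
        have : Nat.card (DA A u) * 3 ≤ Nat.card (DA A u) * k := Nat.mul_le_mul_left _ (by omega)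
        omega
      have hk2' : k ≠ 2 := by
        rintro rfl
        obtain ⟨m, hm⟩ := hAeven
        omega
      omega
    rw [hk1, mul_one, h.card_D hu huH] at hk
    -- the involutions of `A` exhaust `A ∖ 1`
    let f : Option {t : G // t ∈ A ∧ t ≠ 1 ∧ t * t = 1} → A := fun o =>
      o.elim 1 (fun t => ⟨t.1, t.2.1⟩)
    have hf : Function.Injective f := by
      intro x y hxy
      cases x with
      | none =>
        cases y with
        | none => rfl
        | some y => exact absurd (congrArg Subtype.val hxy).symm y.2.2.1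
      | some x =>
        cases y with
        | none => exact absurd (congrArg Subtype.val hxy) x.2.2.1
        | some y =>
          have h5 : (x : G) = (y : G) := congrArg (fun w : A => (w : G)) hxy
          exact congrArg some (Subtype.ext h5)
    have hfs : Function.Surjective f := by
      have : Finite {t : G // t ∈ A ∧ t ≠ 1 ∧ t * t = 1} := inferInstance
      apply (Function.Injective.bijective_of_nat_card_le hf _).2
      rw [Finite.card_option]
      omega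
    intro a ha
    obtain ⟨o, ho⟩ := hfs ⟨a, ha⟩
    cases o with
    | none =>
      have : (1 : G) = a := congrArg Subtype.val ho
      rw [← this, one_mul]
    | some t =>
      have : t.1 = a := congrArg Subtype.val ho
      rw [← this]; exact t.2.2.2
  · right
    exact ⟨h1, h3⟩

end CCS

end Cfsg.Agent.Lib.Helper71.CC
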