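import Mathlib
import Cfsg.Agent.Lib.Helper64.Sylow

/-!
# Camina–Herzog: if every 2-element is centralized by a Sylow 2-subgroup, Sylow 2-subgroups are abelian

Elementary proof (no `Z*`, no strongly closed subgroups).
* a 2-element inverted by a 2-element is an involution (`sq_eq_one_of_inverted`);
* hence involutions of a Sylow 2-subgroup commute (`invol_comm`);
* involutions of a Sylow 2-subgroup `S` are central in `S` (`invol_central`);
* hence the hypothesis passes to centralizers of involutions (`CH_centralizer`) and to quotients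
  by central involutions; induction on the order.
-/

set_option autoImplicit false
open Pointwise

namespace Cfsg.Agent.Lib.Helper71.CaminaHerzog

open Subgroup

universe u

variable {G : Type*} [Group G]

/-- every 2-element is centralized by a Sylow 2-subgroup -/
def CH (G : Type*) [Group G] : Prop :=
  ∀ x : G, (∃ k : ℕ, orderOf x = 2 ^ k) →
    ∃ Q : Sylow 2 G, (Q : Subgroup G) ≤ Subgroup.centralizer ({x} : Set G)

theorem mem_cent {g x : G} : x ∈ Subgroup.centralizer ({g} : Set G) ↔ g * x = x * g := by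
  rw [Subgroup.mem_centralizer_iff]
  simp

instance : Fact (Nat.Prime 2) := ⟨Nat.prime_two⟩

theorem mem_smul_sylow {p : ℕ} {g x : G} {Q : Sylow p G} :
    x ∈ ((g • Q : Sylow p G) : Subgroup G) ↔ g⁻¹ * x * g ∈ (Q : Subgroup G) := by
  rw [Sylow.coe_subgroup_smul, Subgroup.mem_pointwise_smul_iff_inv_smul_mem]
  simp [MulAut.smul_def]

/-- a `p`-element of a subgroup `H` containing the Sylow subgroup `Q` of `G` is `H`-conjugate
into `Q`. -/
theorem exists_conj_mem_sylow [Finite G] {p : ℕ} [Fact p.Prime] (Q : Sylow p G) (H : Subgroup G)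
    (hQ : (Q : Subgroup G) ≤ H) {x : G} (hx : x ∈ H) (hxp : ∃ k : ℕ, orderOf x = p ^ k) :
    ∃ c ∈ H, c⁻¹ * x * c ∈ (Q : Subgroup G) := by
  obtain ⟨k, hk⟩ := hxp
  have h1 : IsPGroup p (Subgroup.zpowers (⟨x, hx⟩ : ↥H)) := by
    apply IsPGroup.of_card (n := k)
    rw [Nat.card_zpowers, ← hk, ← Subgroup.orderOf_coe]
  obtain ⟨R, hR⟩ := h1.exists_le_sylow
  obtain ⟨c, hc⟩ := MulAction.exists_smul_eq ↥H (Q.subtype hQ) R
  refine ⟨c, c.2, ?_⟩
  have h2 : (⟨x, hx⟩ : ↥H) ∈ ((c • Q.subtype hQ : Sylow p ↥H) : Subgroup ↥H) := by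
    rw [hc]; exact hR (Subgroup.mem_zpowers _)
  rw [mem_smul_sylow, Sylow.coe_subtype, Subgroup.mem_subgroupOf] at h2
  simpa using h2

theorem pow_two_orderOf_of_mem_sylow [Finite G] (P : Sylow 2 G) {x : G} (hx : x ∈ (P : Subgroup G)) :
    ∃ k : ℕ, orderOf x = 2 ^ k := by
  obtain ⟨k, hk⟩ := IsPGroup.iff_orderOf.mp P.isPGroup' ⟨x, hx⟩
  exact ⟨k, by rw [← hk, Subgroup.orderOf_mk]⟩

/-- a 2-element inverted by a 2-element is an involution -/
theorem sq_eq_one_of_inverted [Finite G] (h : CH G) {y a : G} (hy : ∃ k : ℕ, orderOf y = 2 ^ k)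
    (ha : ∃ k : ℕ, orderOf a = 2 ^ k) (hinv : a * y * a⁻¹ = y⁻¹) : y * y = 1 := by
  obtain ⟨Q, hQ⟩ := h y hy
  set N := Subgroup.normalizer ((Subgroup.zpowers y : Subgroup G) : Set G) with hN
  have hCN : Subgroup.centralizer ({y} : Set G) ≤ N := by
    intro c hc
    rw [hN, Subgroup.mem_normalizer_iff]
    intro z
    have hcy : y * c = c * y := mem_cent.mp hc
    constructor
    · intro hz
      obtain ⟨k, rfl⟩ := Subgroup.mem_zpowers_iff.mp hz
      have : c * y ^ k * c⁻¹ = y ^ k := by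
        have h1 : Commute c (y ^ k) := (Commute.zpow_right (show Commute c y from hcy.symm) k)
        rw [h1.eq, mul_inv_cancel_right]
      rw [this]; exact hz
    · intro hz
      obtain ⟨k, hk⟩ := Subgroup.mem_zpowers_iff.mp hz
      have h1 : Commute c (y ^ k) := (Commute.zpow_right (show Commute c y from hcy.symm) k)
      have : z = y ^ k := by
        have h2 : z = c⁻¹ * (c * z * c⁻¹) * c := by group
        rw [h2, ← hk, mul_assoc c⁻¹, ← h1.eq, inv_mul_cancel_left]
      rw [this]; exact Subgroup.zpow_mem_zpowers y k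
  have haN : a ∈ N := by
    rw [hN, Subgroup.mem_normalizer_iff]
    intro z
    have key : ∀ k : ℤ, a * y ^ k * a⁻¹ = (y ^ k)⁻¹ := by
      intro k
      rw [← conj_zpow, hinv, inv_zpow]
    constructor
    · intro hz
      obtain ⟨k, rfl⟩ := Subgroup.mem_zpowers_iff.mp hz
      rw [key]; exact Subgroup.inv_mem _ hz
    · intro hz
      obtain ⟨k, hk⟩ := Subgroup.mem_zpowers_iff.mp hz
      have : z = (y ^ k)⁻¹ := by
        have h2 : a * z * a⁻¹ = a * (y ^ k)⁻¹ * a⁻¹ := by
          rw [← hk, ← zpow_neg, key, zpow_neg, inv_inv]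
        exact mul_left_cancel (mul_right_cancel h2)
      rw [this]; exact Subgroup.inv_mem _ (Subgroup.zpow_mem_zpowers y k)
  obtain ⟨c, hc, hcQ⟩ := exists_conj_mem_sylow Q N (hQ.trans hCN) haN ha
  have h1 : y * (c⁻¹ * a * c) = (c⁻¹ * a * c) * y := mem_cent.mp (hQ hcQ)
  have h2 : c * y * c⁻¹ ∈ Subgroup.zpowers y :=
    (Subgroup.mem_normalizer_iff.mp hc y).mp (Subgroup.mem_zpowers y)
  obtain ⟨k, hk⟩ := Subgroup.mem_zpowers_iff.mp h2
  have h3 : (c * y * c⁻¹) * a = a * (c * y * c⁻¹) := by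
    calc (c * y * c⁻¹) * a = c * (y * (c⁻¹ * a * c)) * c⁻¹ := by group
      _ = c * ((c⁻¹ * a * c) * y) * c⁻¹ := by rw [h1]
      _ = a * (c * y * c⁻¹) := by group
  have h4 : a * (c * y * c⁻¹) * a⁻¹ = (c * y * c⁻¹)⁻¹ := by
    rw [← hk, ← conj_zpow, hinv, inv_zpow]
  have h5 : (c * y * c⁻¹) = (c * y * c⁻¹)⁻¹ := by
    rw [← h4, ← h3, mul_inv_cancel_right]
  have h6 : (c * y * c⁻¹) * (c * y * c⁻¹) = 1 := by
    nth_rewrite 1 [h5]
    exact inv_mul_cancel _
  have h7 : c * (y * y) * c⁻¹ = 1 := by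
    rw [← h6]; group
  have h8 : y * y = c⁻¹ * (c * (y * y) * c⁻¹) * c := by group
  rw [h8, h7]; group

/-- involutions of a Sylow 2-subgroup commute -/
theorem invol_comm [Finite G] (h : CH G) (P : Sylow 2 G) {a b : G} (ha : a ∈ (P : Subgroup G))
    (hb : b ∈ (P : Subgroup G)) (ha2 : a * a = 1) (hb2 : b * b = 1) : a * b = b * a := by
  have hai : a⁻¹ = a := inv_eq_of_mul_eq_one_left ha2
  have hbi : b⁻¹ = b := inv_eq_of_mul_eq_one_left hb2
  have h1 := sq_eq_one_of_inverted h (y := a * b) (a := a)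
    (pow_two_orderOf_of_mem_sylow P (Subgroup.mul_mem _ ha hb)) (pow_two_orderOf_of_mem_sylow P ha)
    (by rw [mul_inv_rev, hai, hbi, ← mul_assoc, ha2, one_mul])
  have h2 : a * b = (a * b)⁻¹ := (inv_eq_of_mul_eq_one_left h1).symm
  rw [h2, mul_inv_rev, hai, hbi]

/-- the set of elements of `P` of order dividing 2 -/
def inv2 (P : Subgroup G) : Set G := {x | x ∈ P ∧ x * x = 1}

theorem ncard_inv2_smul (P : Sylow 2 G) (g : G) :
    (inv2 ((g • P : Sylow 2 G) : Subgroup G)).ncard = (inv2 (P : Subgroup G)).ncard := by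
  have h1 : inv2 ((g • P : Sylow 2 G) : Subgroup G) = (fun x => g * x * g⁻¹) '' inv2 (P : Subgroup G) := by
    ext x
    constructor
    · rintro ⟨hx, hx2⟩
      rw [mem_smul_sylow] at hx
      refine ⟨g⁻¹ * x * g, ⟨hx, ?_⟩, by group⟩
      calc g⁻¹ * x * g * (g⁻¹ * x * g) = g⁻¹ * (x * x) * g := by group
        _ = 1 := by rw [hx2]; group
    · rintro ⟨z, ⟨hz, hz2⟩, rfl⟩
      refine ⟨?_, ?_⟩
      · rw [mem_smul_sylow]
        have : g⁻¹ * (g * z * g⁻¹) * g = z := by group
        rw [this]; exact hz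
      · calc g * z * g⁻¹ * (g * z * g⁻¹) = g * (z * z) * g⁻¹ := by group
          _ = 1 := by rw [hz2]; group
  rw [h1]
  apply Set.ncard_image_of_injective
  intro a b hab
  exact mul_left_cancel (mul_right_cancel hab)

theorem inv2_subset_of_subset [Finite G] (P P' : Sylow 2 G)
    (h : inv2 (P : Subgroup G) ⊆ ((P' : Subgroup G) : Set G)) :
    inv2 (P' : Subgroup G) ⊆ inv2 (P : Subgroup G) := by
  obtain ⟨g, rfl⟩ := MulAction.exists_smul_eq G P P'
  have h1 : inv2 (P : Subgroup G) ⊆ inv2 ((g • P : Sylow 2 G) : Subgroup G) :=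
    fun x hx => ⟨h hx, hx.2⟩
  have h2 := Set.eq_of_subset_of_ncard_le h1 (ncard_inv2_smul P g).le (Set.toFinite _)
  rw [h2]

/-- the elements `c` commuting with `v` such that `y` centralizes `c` modulo `⟨v⟩` -/
def twistSub (y v : G) (hv : v * v = 1) : Subgroup G where
  carrier := {c | c * v = v * c ∧ (y * c * y⁻¹ = c ∨ y * c * y⁻¹ = c * v)}
  one_mem' := ⟨by simp, Or.inl (by simp)⟩
  mul_mem' := by
    rintro c d ⟨hc, hc'⟩ ⟨hd, hd'⟩
    refine ⟨by rw [mul_assoc, hd, ← mul_assoc, hc, mul_assoc], ?_⟩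
    have h0 : y * (c * d) * y⁻¹ = (y * c * y⁻¹) * (y * d * y⁻¹) := by group
    rw [h0]
    rcases hc' with hc' | hc' <;> rcases hd' with hd' | hd' <;> rw [hc', hd']
    · left; rfl
    · right; rw [mul_assoc]
    · right; rw [mul_assoc, ← hd, mul_assoc]
    · left
      calc c * v * (d * v) = c * (v * d) * v := by group
        _ = c * (d * v) * v := by rw [hd]
        _ = c * d * (v * v) := by group
        _ = c * d := by rw [hv, mul_one]
  inv_mem' := by
    rintro c ⟨hc, hc'⟩
    have hvi : v⁻¹ = v := inv_eq_of_mul_eq_one_left hv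
    have hci : c⁻¹ * v = v * c⁻¹ := ((show Commute c v from hc).inv_left).eq
    refine ⟨hci, ?_⟩
    have h0 : y * c⁻¹ * y⁻¹ = (y * c * y⁻¹)⁻¹ := by group
    rw [h0]
    rcases hc' with hc' | hc' <;> rw [hc']
    · left; rfl
    · right; rw [mul_inv_rev, hvi, hci]

theorem mem_twistSub {y v : G} {hv : v * v = 1} {c : G} :
    c ∈ twistSub y v hv ↔ c * v = v * c ∧ (y * c * y⁻¹ = c ∨ y * c * y⁻¹ = c * v) := Iff.rfl

theorem core [Finite G] (h : CH G) (S : Sylow 2 G) {y u : G} (hy : y ∈ (S : Subgroup G))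
    (hu : u ∈ (S : Subgroup G)) (hu2 : u * u = 1)
    (hyv : y * (u * (y * u * y⁻¹)) = (u * (y * u * y⁻¹)) * y) : u * (y * u * y⁻¹) = 1 := by
  by_contra hne
  set w := y * u * y⁻¹ with hw
  set v := u * w with hv
  have hwS : w ∈ (S : Subgroup G) := Subgroup.mul_mem _ (Subgroup.mul_mem _ hy hu) (Subgroup.inv_mem _ hy)
  have hw2 : w * w = 1 := by
    calc w * w = y * (u * u) * y⁻¹ := by rw [hw]; group
      _ = 1 := by rw [hu2]; group
  have huw : u * w = w * u := invol_comm h S hu hwS hu2 hw2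
  have hvS : v ∈ (S : Subgroup G) := Subgroup.mul_mem _ hu hwS
  have hv2 : v * v = 1 := by
    calc v * v = u * (w * u) * w := by rw [hv]; group
      _ = u * (u * w) * w := by rw [huw]
      _ = (u * u) * (w * w) := by group
      _ = 1 := by rw [hu2, hw2, one_mul]
  have huv : u * v = v * u := invol_comm h S hu hvS hu2 hv2
  have hyu : y * u * y⁻¹ = u * v := by
    rw [hv, ← mul_assoc, hu2, one_mul]
  obtain ⟨Q, hQ⟩ := h y (pow_two_orderOf_of_mem_sylow S hy)
  obtain ⟨c, hc, hcQ⟩ := exists_conj_mem_sylow Q _ hQ (mem_cent.mpr hyv)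
    (pow_two_orderOf_of_mem_sylow S hvS)
  set P : Sylow 2 G := c • Q with hP
  have hvP : v ∈ (P : Subgroup G) := mem_smul_sylow.mpr hcQ
  have hPC : (P : Subgroup G) ≤ Subgroup.centralizer ({y} : Set G) := by
    intro x hx
    have h1 := hQ (mem_smul_sylow.mp hx)
    have h2 := Subgroup.mul_mem _ (Subgroup.mul_mem _ hc h1) (Subgroup.inv_mem _ hc)
    have h3 : c * (c⁻¹ * x * c) * c⁻¹ = x := by group
    rwa [h3] at h2
  set X := Subgroup.closure (insert u (inv2 (P : Subgroup G))) with hX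
  set T := twistSub y v hv2 with hT
  have hXT : X ≤ T := by
    rw [hX, Subgroup.closure_le]
    intro x hx
    rcases hx with rfl | hx
    · exact ⟨huv, Or.inr hyu⟩
    · refine ⟨invol_comm h P hx.1 hvP hx.2 hv2, Or.inl ?_⟩
      have h1 : y * x = x * y := mem_cent.mp (hPC hx.1)
      rw [h1, mul_inv_cancel_right]
  set K := Subgroup.closure (inv2 (P : Subgroup G)) with hK
  have hKP : K ≤ (P : Subgroup G) := by
    rw [hK, Subgroup.closure_le]
    exact fun x hx => hx.1
  have hKX : K ≤ X := Subgroup.closure_mono (Set.subset_insert _ _)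
  have hKp : IsPGroup 2 (K.subgroupOf X) := (P.isPGroup'.to_le hKP).comap_subtype
  obtain ⟨R, hR⟩ := hKp.exists_le_sylow
  have huX : u ∈ X := Subgroup.subset_closure (Set.mem_insert _ _)
  obtain ⟨k, hk⟩ := pow_two_orderOf_of_mem_sylow S hu
  obtain ⟨c', -, hc'⟩ := exists_conj_mem_sylow R ⊤ le_top (Subgroup.mem_top (⟨u, huX⟩ : ↥X))
    ⟨k, by rw [← hk, Subgroup.orderOf_mk]⟩
  have hRp : IsPGroup 2 ((R : Subgroup ↥X).map X.subtype) := R.isPGroup'.map _
  obtain ⟨P', hP'⟩ := hRp.exists_le_sylow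
  have hsub : inv2 (P : Subgroup G) ⊆ ((P' : Subgroup G) : Set G) := by
    intro x hx
    have hxK : x ∈ K := Subgroup.subset_closure hx
    apply hP'
    exact ⟨⟨x, hKX hxK⟩, hR (Subgroup.mem_subgroupOf.mpr hxK), rfl⟩
  set w' : G := (c' : G)⁻¹ * u * c' with hw'
  have hw'P' : w' ∈ (P' : Subgroup G) := by
    apply hP'
    exact ⟨_, hc', by simp [hw']⟩
  have hw'2 : w' * w' = 1 := by
    calc w' * w' = (c' : G)⁻¹ * (u * u) * c' := by rw [hw']; group
      _ = 1 := by rw [hu2]; group
  have hw'P : w' ∈ (P : Subgroup G) := (inv2_subset_of_subset P P' hsub ⟨hw'P', hw'2⟩).1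
  have h1 : y * w' = w' * y := mem_cent.mp (hPC hw'P)
  obtain ⟨hcv, hcy⟩ := mem_twistSub.mp (hXT c'.2)
  have hvi : v⁻¹ = v := inv_eq_of_mul_eq_one_left hv2
  have h2 : y * w' * y⁻¹ = w' * v := by
    have h0 : y * w' * y⁻¹ = (y * c' * y⁻¹)⁻¹ * (y * u * y⁻¹) * (y * c' * y⁻¹) := by
      rw [hw']; group
    rw [h0, hyu]
    rcases hcy with hcy | hcy <;> rw [hcy]
    · calc (c' : G)⁻¹ * (u * v) * c' = (c' : G)⁻¹ * u * (v * c') := by group
        _ = (c' : G)⁻¹ * u * (c' * v) := by rw [hcv]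
        _ = w' * v := by rw [hw']; group
    · calc ((c' : G) * v)⁻¹ * (u * v) * (c' * v) = v⁻¹ * (c' : G)⁻¹ * u * (v * c') * v := by group
        _ = v * (c' : G)⁻¹ * u * (c' * v) * v := by rw [hvi, hcv]
        _ = v * ((c' : G)⁻¹ * u * c') * (v * v) := by group
        _ = v * ((c' : G)⁻¹ * u * c') := by rw [hv2, mul_one]
        _ = (v * (c' : G)⁻¹) * u * c' := by group
        _ = ((c' : G)⁻¹ * v) * u * c' := by
            rw [((show Commute (c' : G) v from hcv).inv_left).eq]
        _ = (c' : G)⁻¹ * (v * u) * c' := by group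
        _ = (c' : G)⁻¹ * (u * v) * c' := by rw [huv]
        _ = (c' : G)⁻¹ * u * (v * c') := by group
        _ = (c' : G)⁻¹ * u * (c' * v) := by rw [hcv]
        _ = w' * v := by rw [hw']; group
  rw [h1, mul_inv_cancel_right] at h2
  exact hne (mul_left_cancel (h2.symm.trans (mul_one w').symm))

theorem invol_central_aux [Finite G] (h : CH G) (S : Sylow 2 G) {u : G} (hu : u ∈ (S : Subgroup G))
    (hu2 : u * u = 1) :
    ∀ (k : ℕ) (y : G), y ∈ (S : Subgroup G) → y ^ (2 ^ k) = 1 → u * y = y * u := by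
  intro k
  induction k with
  | zero =>
    intro y _ hy1
    rw [pow_zero, pow_one] at hy1
    rw [hy1, mul_one, one_mul]
  | succ k ih =>
    intro y hy hy1
    have h1 : u * (y * y) = (y * y) * u := by
      apply ih (y * y) (Subgroup.mul_mem _ hy hy)
      rw [← pow_two, ← pow_mul, ← pow_succ']
      exact hy1
    have hwS : y * u * y⁻¹ ∈ (S : Subgroup G) :=
      Subgroup.mul_mem _ (Subgroup.mul_mem _ hy hu) (Subgroup.inv_mem _ hy)
    have hw2 : (y * u * y⁻¹) * (y * u * y⁻¹) = 1 := by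
      calc (y * u * y⁻¹) * (y * u * y⁻¹) = y * (u * u) * y⁻¹ := by group
        _ = 1 := by rw [hu2]; group
    have huw : u * (y * u * y⁻¹) = (y * u * y⁻¹) * u := invol_comm h S hu hwS hu2 hw2
    have hyv : y * (u * (y * u * y⁻¹)) = (u * (y * u * y⁻¹)) * y := by
      calc y * (u * (y * u * y⁻¹)) = (y * u * y⁻¹) * ((y * y) * u) * y⁻¹ := by group
        _ = (y * u * y⁻¹) * (u * (y * y)) * y⁻¹ := by rw [h1]
        _ = ((y * u * y⁻¹) * u) * y := by group
        _ = (u * (y * u * y⁻¹)) * y := by rw [huw]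
    have h2 := core h S hy hu hu2 hyv
    have hui : u⁻¹ = u := inv_eq_of_mul_eq_one_left hu2
    have h3 : y * u * y⁻¹ = u := (inv_eq_of_mul_eq_one_right h2).symm.trans hui
    calc u * y = (y * u * y⁻¹) * y := by rw [h3]
      _ = y * u := by group

/-- involutions of a Sylow 2-subgroup are central in it -/
theorem invol_central [Finite G] (h : CH G) (S : Sylow 2 G) {u y : G} (hu : u ∈ (S : Subgroup G))
    (hu2 : u * u = 1) (hy : y ∈ (S : Subgroup G)) : u * y = y * u := by
  obtain ⟨k, hk⟩ := pow_two_orderOf_of_mem_sylow S hy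
  exact invol_central_aux h S hu hu2 k y hy (by rw [← hk, pow_orderOf_eq_one])

theorem exists_pow_two_orderOf_of_sq {t : G} (ht : t * t = 1) : ∃ k : ℕ, orderOf t = 2 ^ k := by
  have h1 : orderOf t ∣ 2 ^ 1 := orderOf_dvd_of_pow_eq_one (by rw [pow_one, pow_two, ht])
  obtain ⟨k, _, hk⟩ := (Nat.dvd_prime_pow Nat.prime_two).mp h1
  exact ⟨k, hk⟩

/-- the hypothesis passes to centralizers of involutions -/
theorem CH_centralizer [Finite G] (h : CH G) {t : G} (ht : t * t = 1) :
    CH ↥(Subgroup.centralizer ({t} : Set G)) := by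
  rintro y ⟨k, hk⟩
  have hy : orderOf (y : G) = 2 ^ k := by rw [← hk, Subgroup.orderOf_coe]
  obtain ⟨Q, hQ⟩ := h (y : G) ⟨k, hy⟩
  have hty : t ∈ Subgroup.centralizer ({(y : G)} : Set G) := mem_cent.mpr (mem_cent.mp y.2).symm
  obtain ⟨c, hc, hcQ⟩ := exists_conj_mem_sylow Q _ hQ hty (exists_pow_two_orderOf_of_sq ht)
  set P : Sylow 2 G := c • Q with hP
  have htP : t ∈ (P : Subgroup G) := mem_smul_sylow.mpr hcQ
  have hPC : (P : Subgroup G) ≤ Subgroup.centralizer ({(y : G)} : Set G) := by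
    intro x hx
    have h1 := hQ (mem_smul_sylow.mp hx)
    have h2 := Subgroup.mul_mem _ (Subgroup.mul_mem _ hc h1) (Subgroup.inv_mem _ hc)
    have h3 : c * (c⁻¹ * x * c) * c⁻¹ = x := by group
    rwa [h3] at h2
  have hPt : (P : Subgroup G) ≤ Subgroup.centralizer ({t} : Set G) :=
    fun x hx => mem_cent.mpr (invol_central h P htP ht hx)
  refine ⟨P.subtype hPt, ?_⟩
  intro x hx
  rw [Sylow.coe_subtype, Subgroup.mem_subgroupOf] at hx
  rw [mem_cent]
  apply Subtype.ext
  exact mem_cent.mp (hPC hx)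

/-- the hypothesis passes to quotients by normal 2-subgroups -/
theorem CH_quotient [Finite G] (h : CH G) (N : Subgroup G) [N.Normal] (hN : IsPGroup 2 N) :
    CH (G ⧸ N) := by
  rintro x ⟨k, hk⟩
  induction x using QuotientGroup.induction_on with
  | H x =>
    have h1 : x ^ (2 ^ k) ∈ N := by
      rw [← QuotientGroup.eq_one_iff, QuotientGroup.mk_pow, ← hk, pow_orderOf_eq_one]
    obtain ⟨j, hj⟩ := hN ⟨_, h1⟩
    have h2 : x ^ (2 ^ (k + j)) = 1 := by
      have := congrArg Subtype.val hj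
      rw [pow_add, pow_mul]
      simpa using this
    obtain ⟨i, _, hi⟩ := (Nat.dvd_prime_pow Nat.prime_two).mp (orderOf_dvd_of_pow_eq_one h2)
    obtain ⟨Q, hQ⟩ := h x ⟨i, hi⟩
    refine ⟨Q.mapSurjective (QuotientGroup.mk'_surjective N), ?_⟩
    rw [Sylow.coe_mapSurjective]
    rintro _ ⟨q, hq, rfl⟩
    rw [mem_cent]
    have h3 : x * q = q * x := mem_cent.mp (hQ hq)
    show (QuotientGroup.mk x : G ⧸ N) * QuotientGroup.mk q = QuotientGroup.mk q * QuotientGroup.mk x
    rw [← QuotientGroup.mk_mul, ← QuotientGroup.mk_mul, h3]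

theorem main_aux : ∀ (n : ℕ) (G : Type u) [Group G] [Finite G], Nat.card G = n → CH G →
    ∀ P : Sylow 2 G, ∀ a ∈ (P : Subgroup G), ∀ b ∈ (P : Subgroup G), a * b = b * a := by
  intro n
  induction n using Nat.strong_induction_on with
  | _ n ih =>
    intro G _ _ hn h P a ha b hb
    by_cases h2 : ∃ t : G, t ≠ 1 ∧ t * t = 1
    · obtain ⟨t, ht1, ht2⟩ := h2
      by_cases hC : Subgroup.centralizer ({t} : Set G) = ⊤
      · -- central case
        have hcen : ∀ g : G, t * g = g * t := fun g => mem_cent.mp (hC ▸ Subgroup.mem_top g)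
        set N := Subgroup.zpowers t with hN
        have hNn : N.Normal := by
          refine ⟨fun x hx g => ?_⟩
          obtain ⟨k, rfl⟩ := Subgroup.mem_zpowers_iff.mp hx
          have h1 : Commute g (t ^ k) := (Commute.zpow_right (show Commute g t from (hcen g).symm) k)
          rw [h1.eq, mul_inv_cancel_right]
          exact hx
        have hot : orderOf t = 2 := orderOf_eq_prime (by rw [pow_two, ht2]) ht1
        have hNc : Nat.card N = 2 := by rw [hN, Nat.card_zpowers, hot]
        have hNp : IsPGroup 2 N := IsPGroup.of_card (n := 1) (by rw [hNc, pow_one])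
        have hmemN : ∀ z ∈ N, z = 1 ∨ z = t := by
          intro z hz
          obtain ⟨k, rfl⟩ := Subgroup.mem_zpowers_iff.mp hz
          rcases Int.even_or_odd' k with ⟨j, rfl | rfl⟩
          · left
            rw [zpow_mul, zpow_two, ht2, one_zpow]
          · right
            rw [zpow_add, zpow_mul, zpow_two, ht2, one_zpow, one_mul, zpow_one]
        have hlt : Nat.card (G ⧸ N) < n := by
          have h1 := Subgroup.card_eq_card_quotient_mul_card_subgroup N
          rw [hNc, hn] at h1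
          have h3 : 0 < Nat.card (G ⧸ N) := Nat.card_pos
          omega
        have hq := ih _ hlt (G ⧸ N) rfl (CH_quotient h N hNp)
          (P.mapSurjective (QuotientGroup.mk'_surjective N))
        have hmod : ∀ c ∈ (P : Subgroup G), a * c * a⁻¹ = c ∨ a * c * a⁻¹ = c * t := by
          intro c hc
          have h1 := hq (QuotientGroup.mk' N a) ⟨a, ha, rfl⟩ (QuotientGroup.mk' N c) ⟨c, hc, rfl⟩
          have h3 : (QuotientGroup.mk (c * a) : G ⧸ N) = QuotientGroup.mk (a * c) := h1.symm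
          rw [QuotientGroup.eq] at h3
          rcases hmemN _ h3 with h4 | h4
          · left
            have h5 : a * c = c * a := by
              have := congrArg (fun z => c * a * z) h4
              simpa [mul_assoc] using this
            rw [h5, mul_inv_cancel_right]
          · right
            have h5 : a * c = c * a * t := by
              have := congrArg (fun z => c * a * z) h4
              simpa [mul_assoc] using this
            rw [h5, mul_assoc c a t, ← hcen a, mul_assoc, mul_assoc, mul_inv_cancel, mul_one]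
        obtain ⟨Q, hQ⟩ := h a (pow_two_orderOf_of_mem_sylow P ha)
        set T := twistSub a t ht2 with hT
        have hPT : (P : Subgroup G) ≤ T := fun c hc => ⟨(hcen c).symm, hmod c hc⟩
        have hQT : (Q : Subgroup G) ≤ T := by
          intro c hc
          refine ⟨(hcen c).symm, Or.inl ?_⟩
          rw [mem_cent.mp (hQ hc), mul_inv_cancel_right]
        obtain ⟨m, hm, hmQ⟩ := Cfsg.Agent.Lib.Helper64.exists_mem_smul_eq_of_le Q P T hQT hPT
        have hb' : m⁻¹ * b * m ∈ (Q : Subgroup G) := by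
          rw [← mem_smul_sylow, hmQ]; exact hb
        have h1 : a * (m⁻¹ * b * m) = (m⁻¹ * b * m) * a := mem_cent.mp (hQ hb')
        have h3 : (m * a * m⁻¹) * b = b * (m * a * m⁻¹) := by
          calc (m * a * m⁻¹) * b = m * (a * (m⁻¹ * b * m)) * m⁻¹ := by group
            _ = m * ((m⁻¹ * b * m) * a) * m⁻¹ := by rw [h1]
            _ = b * (m * a * m⁻¹) := by group
        obtain ⟨-, h4⟩ := mem_twistSub.mp (T.inv_mem hm)
        rcases h4 with h4 | h4
        · have h5 : m * a * m⁻¹ = a := by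
            calc m * a * m⁻¹ = m * (a * m⁻¹ * a⁻¹) * a := by group
              _ = a := by rw [h4]; group
          rwa [h5] at h3
        · have h5 : m * a * m⁻¹ = t * a := by
            calc m * a * m⁻¹ = m * (a * m⁻¹ * a⁻¹) * a := by group
              _ = t * a := by rw [h4]; group
          rw [h5, mul_assoc, ← mul_assoc b, ← hcen b, mul_assoc] at h3
          exact mul_left_cancel h3
      · -- proper centralizer
        set C := Subgroup.centralizer ({t} : Set G) with hCdef
        have hlt : Nat.card C < n := by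
          by_contra hcon
          push Not at hcon
          exact hC (Subgroup.eq_top_of_le_card C (hn ▸ hcon))
        obtain ⟨Q, hQ⟩ := h t (exists_pow_two_orderOf_of_sq ht2)
        have hq := ih _ hlt C rfl (CH_centralizer h ht2) (Q.subtype hQ)
        have hQab : ∀ x ∈ (Q : Subgroup G), ∀ y ∈ (Q : Subgroup G), x * y = y * x := by
          intro x hx y hy
          have h1 := hq ⟨x, hQ hx⟩ (by rw [Sylow.coe_subtype, Subgroup.mem_subgroupOf]; exact hx)
            ⟨y, hQ hy⟩ (by rw [Sylow.coe_subtype, Subgroup.mem_subgroupOf]; exact hy)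
          exact congrArg Subtype.val h1
        obtain ⟨g, rfl⟩ := MulAction.exists_smul_eq G Q P
        have h1 := hQab _ (mem_smul_sylow.mp ha) _ (mem_smul_sylow.mp hb)
        calc a * b = g * ((g⁻¹ * a * g) * (g⁻¹ * b * g)) * g⁻¹ := by group
          _ = g * ((g⁻¹ * b * g) * (g⁻¹ * a * g)) * g⁻¹ := by rw [h1]
          _ = b * a := by group
    · -- no involutions
      obtain ⟨k, hk⟩ := pow_two_orderOf_of_mem_sylow P ha
      rcases Nat.eq_zero_or_pos k with h0 | h0
      · rw [h0, pow_zero, orderOf_eq_one_iff] at hk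
        rw [hk, one_mul, mul_one]
      · exfalso
        apply h2
        refine ⟨a ^ (2 ^ (k - 1)), ?_, ?_⟩
        · intro h1
          have h3 := orderOf_dvd_of_pow_eq_one h1
          rw [hk] at h3
          have h4 := Nat.le_of_dvd (by positivity) h3
          have h5 : 2 ^ (k - 1) < 2 ^ k := Nat.pow_lt_pow_right (by norm_num) (by omega)
          omega
        · rw [← pow_add, ← two_mul, ← pow_succ']
          have : k - 1 + 1 = k := by omega
          rw [this, ← hk, pow_orderOf_eq_one]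

/-- **Camina–Herzog**: if every 2-element is centralized by some Sylow 2-subgroup, then the Sylow
2-subgroups are abelian. -/
theorem comm_of_CH {G : Type u} [Group G] [Finite G] (h : CH G) (P : Sylow 2 G) {a b : G}
    (ha : a ∈ (P : Subgroup G)) (hb : b ∈ (P : Subgroup G)) : a * b = b * a :=
  main_aux _ G rfl h P a ha b hb

end Cfsg.Agent.Lib.Helper71.CaminaHerzog
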