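import Mathlib

/-!
# A graded Lie ring from homogeneous data

Given additive groups `A i` (`i : ℕ`) and biadditive maps `β i j : A i →+ A j →+ A (i + j)` which satisfy
the alternating law, skew symmetry and the Jacobi identity on homogeneous elements (all three stated
inside the direct sum, so that no casts are needed), the direct sum is a Lie ring.
-/

set_option autoImplicit false

open DirectSum

namespace Cfsg.Agent.Lib.Helper71.GrLie

universe u

/-- homogeneous data of a graded Lie ring -/
structure Data (A : ℕ → Type u) [∀ i, AddCommGroup (A i)] where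
  β : ∀ i j, A i →+ A j →+ A (i + j)
  alt : ∀ i (a : A i), of A (i + i) (β i i a a) = 0
  skew : ∀ i j (a : A i) (b : A j), of A (i + j) (β i j a b) + of A (j + i) (β j i b a) = 0
  jac : ∀ i j k (a : A i) (b : A j) (c : A k),
    of A (i + (j + k)) (β i (j + k) a (β j k b c)) =
      of A (i + j + k) (β (i + j) k (β i j a b) c) + of A (j + (i + k)) (β j (i + k) b (β i k a c))

variable {A : ℕ → Type u} [∀ i, AddCommGroup (A i)]

/-- the bracket as a biadditive map -/
def brk (D : Data A) : (⨁ i, A i) →+ (⨁ i, A i) →+ (⨁ i, A i) :=
  DirectSum.toAddMonoid fun i =>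
    AddMonoidHom.flip <|
      DirectSum.toAddMonoid fun j =>
        AddMonoidHom.flip <| (DirectSum.of A (i + j)).compHom.comp <| D.β i j

theorem brk_of_of (D : Data A) {i j : ℕ} (a : A i) (b : A j) :
    brk D (of A i a) (of A j b) = of A (i + j) (D.β i j a b) := by
  simp [brk]

theorem brk_skew (D : Data A) (x y : ⨁ i, A i) : brk D x y + brk D y x = 0 := by
  induction x using DirectSum.induction_on with
  | zero => simp
  | of i a =>
    induction y using DirectSum.induction_on with
    | zero => simp
    | of j b =>
      rw [brk_of_of, brk_of_of]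
      exact D.skew i j a b
    | add y z hy hz =>
      rw [map_add, map_add, AddMonoidHom.add_apply]
      calc _ = (brk D (of A i a) y + brk D y (of A i a)) + (brk D (of A i a) z + brk D z (of A i a)) := by
            abel
        _ = 0 := by rw [hy, hz, add_zero]
  | add x z hx hz =>
    rw [map_add, map_add, AddMonoidHom.add_apply]
    calc _ = (brk D x y + brk D y x) + (brk D z y + brk D y z) := by abel
      _ = 0 := by rw [hx, hz, add_zero]

theorem brk_self (D : Data A) (x : ⨁ i, A i) : brk D x x = 0 := by
  induction x using DirectSum.induction_on with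
  | zero => simp
  | of i a =>
    rw [brk_of_of]
    exact D.alt i a
  | add x y hx hy =>
    simp only [map_add, AddMonoidHom.add_apply, hx, hy]
    have := brk_skew D x y
    calc _ = brk D x y + brk D y x := by abel
      _ = 0 := this

theorem brk_jac (D : Data A) (x y z : ⨁ i, A i) :
    brk D x (brk D y z) = brk D (brk D x y) z + brk D y (brk D x z) := by
  induction x using DirectSum.induction_on with
  | zero => simp
  | of i a =>
    induction y using DirectSum.induction_on with
    | zero => simp
    | of j b =>
      induction z using DirectSum.induction_on with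
      | zero => simp
      | of k c =>
        simp only [brk_of_of]
        exact D.jac i j k a b c
      | add z w hz hw =>
        simp only [map_add, hz, hw]
        abel
    | add y w hy hw =>
      simp only [map_add, AddMonoidHom.add_apply, hy, hw]
      abel
  | add x w hx hw =>
    simp only [map_add, AddMonoidHom.add_apply, hx, hw]
    abel

/-- the underlying additive group -/
def L (_D : Data A) : Type u := ⨁ i, A i

instance (D : Data A) : AddCommGroup (L D) := inferInstanceAs (AddCommGroup (⨁ i, A i))

/-- the inclusion of a homogeneous component -/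
def ι (D : Data A) (i : ℕ) : A i →+ L D := of A i

instance (D : Data A) : Bracket (L D) (L D) := ⟨fun x y => brk D x y⟩

instance (D : Data A) : LieRing (L D) where
  add_lie x y z := by
    change brk D (x + y) z = brk D x z + brk D y z
    exact DFunLike.congr_fun (map_add (brk D) x y) z
  lie_add x y z := map_add (brk D x) y z
  lie_self x := brk_self D x
  leibniz_lie x y z := brk_jac D x y z

theorem lie_ι_ι (D : Data A) {i j : ℕ} (a : A i) (b : A j) :
    ⁅ι D i a, ι D j b⁆ = ι D (i + j) (D.β i j a b) := brk_of_of D a b

theorem ι_injective (D : Data A) (i : ℕ) : Function.Injective (ι D i) := DirectSum.of_injective i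

/-- induction principle for `L D` -/
theorem L_induction (D : Data A) {P : L D → Prop} (x : L D) (h0 : P 0)
    (hι : ∀ i (a : A i), P (ι D i a)) (hadd : ∀ x y, P x → P y → P (x + y)) : P x :=
  DirectSum.induction_on (motive := P) x h0 hι hadd

/-- two indices and two elements which agree give the same homogeneous element -/
theorem ι_congr (D : Data A) {i j : ℕ} (h : i = j) (a : A i) (b : A j) (hab : HEq a b) :
    ι D i a = ι D j b := by
  subst h
  rw [eq_of_heq hab]

/-! ### endomorphisms induced by homogeneous maps -/

/-- the additive endomorphism induced by a family of additive endomorphisms of the components -/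
def mapL (D : Data A) (f : ∀ i, A i →+ A i) : L D →+ L D :=
  DirectSum.toAddMonoid fun i => (ι D i).comp (f i)

theorem mapL_ι (D : Data A) (f : ∀ i, A i →+ A i) (i : ℕ) (a : A i) :
    mapL D f (ι D i a) = ι D i (f i a) :=
  DirectSum.toAddMonoid_of (fun i => (ι D i).comp (f i)) i a

theorem mapL_lie (D : Data A) (f : ∀ i, A i →+ A i)
    (hf : ∀ i j (a : A i) (b : A j), f (i + j) (D.β i j a b) = D.β i j (f i a) (f j b)) (x y : L D) :
    mapL D f ⁅x, y⁆ = ⁅mapL D f x, mapL D f y⁆ := by
  induction x using L_induction D with
  | h0 => simp
  | hι i a =>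
    induction y using L_induction D with
    | h0 => simp
    | hι j b => rw [lie_ι_ι, mapL_ι, mapL_ι, mapL_ι, lie_ι_ι, hf]
    | hadd y z hy hz => rw [lie_add, map_add, map_add, lie_add, hy, hz]
  | hadd x z hx hz => rw [add_lie, map_add, map_add, add_lie, hx, hz]

theorem mapL_iterate_ι (D : Data A) (f : ∀ i, A i →+ A i) (n i : ℕ) (a : A i) :
    (mapL D f)^[n] (ι D i a) = ι D i ((f i)^[n] a) := by
  induction n generalizing a with
  | zero => rfl
  | succ n ih => rw [Function.iterate_succ_apply, mapL_ι, ih, Function.iterate_succ_apply]

theorem iterate_add' {M : Type*} [AddCommGroup M] (φ : M →+ M) (n : ℕ) (x y : M) :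
    φ^[n] (x + y) = φ^[n] x + φ^[n] y := by
  induction n generalizing x y with
  | zero => rfl
  | succ n ih => rw [Function.iterate_succ_apply, map_add, ih, Function.iterate_succ_apply,
      Function.iterate_succ_apply]

theorem iterate_zero' {M : Type*} [AddCommGroup M] (φ : M →+ M) (n : ℕ) : φ^[n] (0 : M) = 0 := by
  induction n with
  | zero => rfl
  | succ n ih => rw [Function.iterate_succ_apply, map_zero, ih]

/-- `φ^p = 1` from the components -/
theorem mapL_iterate_eq (D : Data A) (f : ∀ i, A i →+ A i) (p : ℕ)
    (hf : ∀ i (a : A i), (f i)^[p] a = a) (x : L D) : (mapL D f)^[p] x = x := by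
  induction x using L_induction D with
  | h0 => exact iterate_zero' _ _
  | hι i a => rw [mapL_iterate_ι, hf]
  | hadd x y hx hy => rw [iterate_add', hx, hy]

/-- `1 + φ + ⋯ + φ^(p-1) = 0` from the components -/
theorem mapL_sum_eq_zero (D : Data A) (f : ∀ i, A i →+ A i) (p : ℕ)
    (hf : ∀ i (a : A i), ∑ j ∈ Finset.range p, (f i)^[j] a = 0) (x : L D) :
    ∑ j ∈ Finset.range p, (mapL D f)^[j] x = 0 := by
  induction x using L_induction D with
  | h0 => simp
  | hι i a =>
    simp only [mapL_iterate_ι]
    rw [← map_sum, hf, map_zero]
  | hadd x y hx hy =>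
    simp only [iterate_add']
    rw [Finset.sum_add_distrib, hx, hy, add_zero]

/-- no `p`-torsion from the components -/
theorem torsion_free (D : Data A) (p : ℕ) (hA : ∀ i (a : A i), p • a = 0 → a = 0) (x : L D)
    (hx : p • x = 0) : x = 0 := by
  have key : ∀ y : ⨁ i, A i, p • y = 0 → y = 0 := by
    intro y hy
    apply DFinsupp.ext
    intro i
    apply hA i
    have h1 : (p • y) i = (0 : ⨁ i, A i) i := DFunLike.congr_fun hy i
    have h2 : (p • y) i = p • y i := DFinsupp.smul_apply (β := fun i => A i) p y i
    rw [← h2, h1]
    rfl
  exact key x hx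

/-- an additive subgroup containing all homogeneous elements of the degrees where `A i` is not trivial -/
theorem eq_zero_of_components (D : Data A) (x : L D) (h : ∀ i (a : A i), a = 0) : x = 0 := by
  induction x using L_induction D with
  | h0 => rfl
  | hι i a => rw [h i a, map_zero]
  | hadd x y hx hy => rw [hx, hy, add_zero]

end Cfsg.Agent.Lib.Helper71.GrLie
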