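import Mathlib
import Cfsg.Agent.Lib.Helper1.FPF
import Cfsg.Agent.S0659

/-!
# Kegel's theorem: a finite group with a splitting automorphism of prime order is nilpotent

`nrm φ k x = x * φ x * ... * φ^[k-1] x`; `Spl φ r` says `φ^[r] = id` and `nrm φ r x = 1` for all `x`.
The property `Spl` is stable under composing with inner automorphisms (`spl_twist`), which replaces
the invariant Sylow subgroups of the fixed-point-free case.
-/

set_option autoImplicit false
open Pointwise

namespace Cfsg.Agent.Lib.Helper71.Kegel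

open Cfsg Cfsg.Agent.Lib.Helper1 Cfsg.Agent.Lib.Helper1.FPF

universe u
variable {G : Type u} [Group G]

/-- partial norms `x * φ x * ... * φ^[k-1] x` -/
def nrm (φ : G ≃* G) : ℕ → G → G
  | 0, _ => 1
  | k + 1, x => nrm φ k x * φ^[k] x

theorem nrm_zero (φ : G ≃* G) (x : G) : nrm φ 0 x = 1 := rfl

theorem nrm_succ (φ : G ≃* G) (k : ℕ) (x : G) : nrm φ (k + 1) x = nrm φ k x * φ^[k] x := rfl

theorem nrm_succ' (φ : G ≃* G) (k : ℕ) (x : G) : nrm φ (k + 1) x = x * φ (nrm φ k x) := by
  induction k with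
  | zero => simp [nrm]
  | succ k ih =>
    calc nrm φ (k + 1 + 1) x = nrm φ (k + 1) x * φ^[k + 1] x := rfl
      _ = x * φ (nrm φ k x) * φ (φ^[k] x) := by rw [ih, Function.iterate_succ_apply']
      _ = x * φ (nrm φ (k + 1) x) := by rw [nrm_succ φ k, map_mul, mul_assoc]

theorem list_prod_eq_nrm (φ : G ≃* G) (k : ℕ) (x : G) :
    ((List.range k).map (fun i => φ^[i] x)).prod = nrm φ k x := by
  induction k with
  | zero => rfl
  | succ k ih => rw [List.range_succ, List.map_append, List.prod_append, ih, nrm_succ]; simp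

/-- `φ` is a splitting automorphism of exponent `r`. -/
def Spl (φ : G ≃* G) (r : ℕ) : Prop := φ^[r] = _root_.id ∧ ∀ x, nrm φ r x = 1

/-- `φ` followed by conjugation by `g` -/
def twist (φ : G ≃* G) (g : G) : G ≃* G := φ.trans (MulAut.conj g)

theorem twist_apply (φ : G ≃* G) (g x : G) : twist φ g x = g * φ x * g⁻¹ := rfl

theorem twist_iterate (φ : G ≃* G) (g : G) (k : ℕ) (x : G) :
    (twist φ g)^[k] x = nrm φ k g * φ^[k] x * (nrm φ k g)⁻¹ := by
  induction k with
  | zero => simp [nrm]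
  | succ k ih =>
    rw [Function.iterate_succ_apply', ih, twist_apply, nrm_succ', Function.iterate_succ_apply']
    simp only [map_mul, map_inv, mul_inv_rev, mul_assoc]

theorem twist_nrm (φ : G ≃* G) (g : G) (k : ℕ) (x : G) :
    nrm (twist φ g) k x = nrm φ k (x * g) * (nrm φ k g)⁻¹ := by
  induction k with
  | zero => simp [nrm]
  | succ k ih =>
    rw [nrm_succ, ih, twist_iterate, nrm_succ, nrm_succ, iterate_map_mul]
    simp only [mul_inv_rev, mul_assoc, inv_mul_cancel_left, mul_inv_cancel_left]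

theorem spl_twist {φ : G ≃* G} {r : ℕ} (h : Spl φ r) (g : G) : Spl (twist φ g) r := by
  refine ⟨?_, fun x => ?_⟩
  · funext x
    rw [twist_iterate, h.2, h.1]; simp
  · rw [twist_nrm, h.2, h.2]; simp

theorem restr_nrm (φ : G ≃* G) (H : Subgroup G) (h : H.map (φ : G →* G) = H) (k : ℕ) (x : H) :
    ((nrm (restr φ H h) k x : H) : G) = nrm φ k x := by
  induction k with
  | zero => rfl
  | succ k ih => rw [nrm_succ, nrm_succ, Subgroup.coe_mul, ih, restr_iterate]

theorem spl_restr {φ : G ≃* G} {r : ℕ} (hs : Spl φ r) (H : Subgroup G)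
    (h : H.map (φ : G →* G) = H) : Spl (restr φ H h) r :=
  ⟨restr_iterate_eq_id hs.1 H h, fun x => Subtype.ext (by rw [restr_nrm, hs.2]; rfl)⟩

theorem quot_nrm (φ : G ≃* G) (N : Subgroup G) [N.Normal] (h : N.map (φ : G →* G) = N)
    (k : ℕ) (x : G) : nrm (quot φ N h) k (x : G ⧸ N) = ((nrm φ k x : G) : G ⧸ N) := by
  induction k with
  | zero => rfl
  | succ k ih => rw [nrm_succ, nrm_succ, ih, quot_iterate, QuotientGroup.mk_mul]

theorem spl_quot {φ : G ≃* G} {r : ℕ} (hs : Spl φ r) (N : Subgroup G) [N.Normal]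
    (h : N.map (φ : G →* G) = N) : Spl (quot φ N h) r := by
  refine ⟨quot_iterate_eq_id hs.1 N h, fun x => ?_⟩
  obtain ⟨x, rfl⟩ := QuotientGroup.mk_surjective x
  rw [quot_nrm, hs.2]; rfl

theorem map_twist_of_normal (φ : G ≃* G) (g : G) (N : Subgroup G) [hN : N.Normal] :
    N.map ((twist φ g : G ≃* G) : G →* G) = N.map (φ : G →* G) := by
  have hn : (N.map (φ : G →* G)).Normal := hN.map _ φ.surjective
  ext x
  constructor
  · rintro ⟨y, hy, rfl⟩
    exact hn.conj_mem _ (Subgroup.mem_map_of_mem _ hy) g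
  · intro hx
    have h1 := hn.conj_mem _ hx g⁻¹
    obtain ⟨y, hy, hyx⟩ := h1
    refine ⟨y, hy, ?_⟩
    change g * φ y * g⁻¹ = x
    have : φ y = g⁻¹ * x * g⁻¹⁻¹ := hyx
    rw [this]; group

theorem exists_twist_sylow [Finite G] (φ : G ≃* G) (p : ℕ) [Fact p.Prime] (P : Sylow p G) :
    ∃ g : G, (P : Subgroup G).map ((twist φ g : G ≃* G) : G →* G) = P := by
  let Q : Sylow p G := (φ : MulAut G) • P
  obtain ⟨g, hg⟩ := MulAction.exists_smul_eq G Q P
  refine ⟨g, ?_⟩
  have h1 := congrArg (fun R : Sylow p G => (R : Subgroup G)) hg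
  simp only [Sylow.coe_subgroup_smul] at h1
  conv_rhs => rw [← h1]
  ext x
  constructor
  · rintro ⟨y, hy, rfl⟩
    refine Subgroup.smul_mem_pointwise_smul (φ y) (MulAut.conj g) _ ?_
    exact Subgroup.smul_mem_pointwise_smul y (φ : MulAut G) _ hy
  · intro hx
    rw [Subgroup.mem_pointwise_smul_iff_inv_smul_mem] at hx
    have hx' : (φ : MulAut G)⁻¹ • ((MulAut.conj g)⁻¹ • x) ∈ (P : Subgroup G) :=
      Subgroup.mem_pointwise_smul_iff_inv_smul_mem.1 hx
    refine ⟨_, hx', ?_⟩
    change MulAut.conj g • ((φ : MulAut G) • ((φ : MulAut G)⁻¹ • ((MulAut.conj g)⁻¹ • x))) = x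
    rw [smul_inv_smul, smul_inv_smul]

/-- **Key lemma**: an invariant `p'`-subgroup centralises an invariant normal elementary abelian
`p`-subgroup. -/
theorem le_centralizer_of_spl [Finite G] {φ : G ≃* G} {r : ℕ} (hr : r.Prime) (hφ : Spl φ r)
    {p : ℕ} (V : Subgroup G) [V.Normal]
    (hV : V.map (φ : G →* G) = V) (hVc : ∀ a ∈ V, ∀ b ∈ V, a * b = b * a)
    (hVp : ∀ a ∈ V, a ^ p = 1) (Q : Subgroup G) (hQ : Q.map (φ : G →* G) = Q)
    (hcop : (Nat.card Q).Coprime p) : Q ≤ Subgroup.centralizer (V : Set G) := by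
  set X : MulAut V := restr φ V hV with hX
  set c : G →* MulAut V := MulAut.conjNormal with hc
  set T : Subgroup (MulAut V) := Q.map c with hT
  have hXc : ∀ z : G, X * c z = c (φ z) * X := by
    intro z
    ext v
    simp [hX, hc, MulAut.conjNormal_apply]
  have hTbot : T = ⊥ := by
    apply Cfsg.Agent.Lib.Lead.mulAut_eq_bot_of_norm_coset_eq_one (p := p) (n := r)
      (fun a b => Subtype.ext (hVc a a.2 b b.2))
      (fun a => Subtype.ext (by simpa using hVp a a.2)) X T
    · exact Nat.Coprime.coprime_dvd_left (Subgroup.card_map_dvd _ _) hcop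
    · rintro _ ⟨z, hz, rfl⟩
      have hz' : z ∈ Q.map (φ : G →* G) := by rw [hQ]; exact hz
      obtain ⟨w, hw, rfl⟩ := hz'
      refine ⟨w, hw, ?_⟩
      have := hXc w
      rw [mul_assoc, eq_inv_mul_iff_mul_eq]
      exact this
    · exact hr
    · rintro _ ⟨z, hz, rfl⟩ a
      have hk : ∀ k : ℕ, ((((X * c z) ^ k) a : V) : G) = (twist φ (φ z))^[k] (a : G) := by
        intro k
        induction k with
        | zero => rfl
        | succ k ih =>
          rw [pow_succ', MulAut.mul_apply, Function.iterate_succ_apply', ← ih, hXc,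
            MulAut.mul_apply, twist_apply]
          simp [hX, hc, MulAut.conjNormal_apply]
      apply Subtype.ext
      rw [SubmonoidClass.coe_list_prod, List.map_map]
      have h1 := list_prod_eq_nrm (twist φ (φ z)) r (a : G)
      rw [(spl_twist hφ (φ z)).2] at h1
      rw [Subgroup.coe_one, ← h1]
      congr 1
      apply List.map_congr_left
      intro k _
      exact hk k
  intro z hz
  rw [Subgroup.mem_centralizer_iff]
  intro v hv
  have h1 : c z ∈ T := Subgroup.mem_map_of_mem _ hz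
  rw [hTbot, Subgroup.mem_bot] at h1
  have h2 := congrArg (fun f : MulAut V => ((f ⟨v, hv⟩ : V) : G)) h1
  simp only [hc, MulAut.conjNormal_apply, MulAut.one_apply] at h2
  rw [mul_inv_eq_iff_eq_mul] at h2
  exact h2.symm

theorem kegel_aux {r : ℕ} (hr : r.Prime) (n : ℕ) :
    ∀ (G : Type u) [Group G] [Finite G] (φ : G ≃* G), Spl φ r →
      Nat.card G = n → Group.IsNilpotent G := by
  induction n using Nat.strong_induction_on with
  | _ n ih =>
  intro G _ _ φ hφ hn
  subst hn
  by_cases hnt : Nontrivial G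
  swap
  · rw [not_nontrivial_iff_subsingleton] at hnt
    infer_instance
  have ihsub : ∀ ψ : G ≃* G, Spl ψ r → ∀ L : Subgroup G, L.map (ψ : G →* G) = L → L ≠ ⊤ →
      Group.IsNilpotent L :=
    fun ψ hψ L hL hne => ih _ (card_subgroup_lt_of_ne_top hne) L (restr ψ L hL)
      (spl_restr hψ L hL) rfl
  have ihquot : ∀ (N : Subgroup G) [N.Normal], N.map (φ : G →* G) = N → N ≠ ⊥ →
      Group.IsNilpotent (G ⧸ N) :=
    fun N _ hN hne => ih _ (card_quotient_lt_of_ne_bot hne) (G ⧸ N) (quot φ N hN)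
      (spl_quot hφ N hN) rfl
  let S : Set (Subgroup G) := {S | S.Normal ∧ S.map (φ : G →* G) = S ∧ S ≠ ⊥}
  obtain ⟨V, hV⟩ := (Set.toFinite S).exists_minimal
    ⟨⊤, inferInstance, Subgroup.map_top_of_surjective _ φ.surjective, top_ne_bot⟩
  obtain ⟨hVn, hVφ, hVne⟩ := hV.prop
  have hmin : ∀ M : Subgroup G, M.Normal → M.map (φ : G →* G) = M → M ≤ V → M = ⊥ ∨ M = V := by
    intro M h1 h2 h3
    by_cases hM0 : M = ⊥
    · exact Or.inl hM0
    · exact Or.inr (le_antisymm h3 (hV.le_of_le ⟨h1, h2, hM0⟩ h3))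
  by_cases hVtop : V = ⊤
  · -- the `φ`-simple case
    subst hVtop
    by_cases h2 : IsPGroup 2 G
    · have : Fact (Nat.Prime 2) := ⟨Nat.prime_two⟩
      exact h2.isNilpotent
    obtain ⟨p, hp, hpG, hp2⟩ : ∃ q : ℕ, q.Prime ∧ q ∣ Nat.card G ∧ q ≠ 2 := by
      by_contra hcon
      push Not at hcon
      apply h2
      have := Nat.eq_prime_pow_of_unique_prime_dvd (n := Nat.card G) (p := 2) Nat.card_pos.ne'
        (fun {d} hd hdvd => hcon d hd hdvd)
      exact IsPGroup.of_card this
    have : Fact p.Prime := ⟨hp⟩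
    let P : Sylow p G := default
    obtain ⟨g, hP⟩ := exists_twist_sylow φ p P
    set ψ : G ≃* G := twist φ g with hψdef
    have hψ : Spl ψ r := spl_twist hφ g
    have hPne : (P : Subgroup G) ≠ ⊥ := P.ne_bot_of_dvd_card hpG
    set Z := centerThompsonAOf (P : Subgroup G) with hZ
    have hZne : Z ≠ ⊥ := Cfsg.Agent.S0658.centerThompsonAOf_ne_bot P.isPGroup' hPne
    have hZP : Z ≤ P := Cfsg.Agent.S0658.centerThompsonAOf_le _
    have hZφ : Z.map (ψ : G →* G) = Z := by
      rw [hZ, ← Cfsg.Agent.Lib.Helper11.centerThompsonAOf_map (ψ : G →* G) _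
        (by rw [(MonoidHom.ker_eq_bot_iff _).2 ψ.injective, inf_bot_eq]), hP]
    have hLφ : (Subgroup.normalizer (Z : Set G)).map (ψ : G →* G)
        = Subgroup.normalizer (Z : Set G) := by
      have := Subgroup.map_equiv_normalizer_eq Z ψ
      change (Subgroup.normalizer (Z : Set G)).map (ψ : G →* G)
        = Subgroup.normalizer ((Z.map (ψ : G →* G) : Subgroup G) : Set G) at this
      rw [this, hZφ]
    by_cases hL : Subgroup.normalizer (Z : Set G) = ⊤
    · have hZn : Z.Normal := Subgroup.normalizer_eq_top_iff.1 hL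
      have hZφ' : Z.map (φ : G →* G) = Z := by
        rw [← map_twist_of_normal φ g Z]; exact hZφ
      rcases hmin Z hZn hZφ' le_top with h | h
      · exact absurd h hZne
      · exact isNilpotent_of_sylow_eq_top P (top_le_iff.1 (h ▸ hZP))
    · have hnil := ihsub ψ hψ _ hLφ hL
      have hc := Cfsg.Agent.S0659.result hp2 P (hasNormalPComplement_of_isNilpotent p)
      rw [Cfsg.Agent.Lib.Lead.hasNormalPComplement_iff] at hc
      obtain ⟨K, hKn, hK1, k, hK2⟩ := hc
      have hKφ : K.map (φ : G →* G) = K := by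
        ext x
        rw [Cfsg.Agent.Lib.Lead.mem_iff_coprime_orderOf_of_normal_complement hK1 hK2]
        constructor
        · rintro ⟨y, hy, rfl⟩
          rw [SetLike.mem_coe,
            Cfsg.Agent.Lib.Lead.mem_iff_coprime_orderOf_of_normal_complement hK1 hK2] at hy
          change (orderOf (φ y)).Coprime p
          rw [MulEquiv.orderOf_eq]
          exact hy
        · intro hx
          refine ⟨φ.symm x, ?_, by simp⟩
          rw [SetLike.mem_coe,
            Cfsg.Agent.Lib.Lead.mem_iff_coprime_orderOf_of_normal_complement hK1 hK2,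
            MulEquiv.orderOf_eq]
          exact hx
      rcases hmin K hKn hKφ le_top with h | h
      · rw [h, Subgroup.index_bot] at hK2
        exact (IsPGroup.of_card hK2).isNilpotent
      · rw [h, Subgroup.card_top] at hK1
        exact absurd hpG ((Nat.Prime.coprime_iff_not_dvd hp).1 hK1.symm)
  -- `V` is a proper invariant normal subgroup
  have hVnil := ihsub φ hφ V hVφ hVtop
  have hVsolv : Group.IsSolvable V := inferInstance
  have hQnil := ihquot V hVφ hVne
  have hlt := commutator_lt_of_isSolvable hVsolv hVne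
  have hbot : ⁅V, V⁆ = ⊥ := by
    rcases hmin ⁅V, V⁆ inferInstance (by rw [Subgroup.map_commutator, hVφ]) hlt.le with h | h
    · exact h
    · exact absurd h hlt.ne
  have hcomm : ∀ x ∈ V, ∀ y ∈ V, x * y = y * x := by
    rw [Subgroup.commutator_eq_bot_iff_le_centralizer] at hbot
    intro x hx y hy
    exact ((Subgroup.mem_centralizer_iff.1 (hbot hx)) y hy).symm
  have hcard : Nat.card V ≠ 1 := fun h => hVne (Subgroup.card_eq_one.1 h)
  let p := (Nat.card V).minFac
  have hp : p.Prime := Nat.minFac_prime hcard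
  have : Fact p.Prime := ⟨hp⟩
  let Ω : Subgroup G :=
    { carrier := {x | x ∈ V ∧ x ^ p = 1}
      mul_mem' := by
        rintro a b ⟨ha, ha'⟩ ⟨hb, hb'⟩
        refine ⟨V.mul_mem ha hb, ?_⟩
        rw [(show Commute a b from hcomm a ha b hb).mul_pow, ha', hb', one_mul]
      one_mem' := ⟨V.one_mem, one_pow _⟩
      inv_mem' := by
        rintro a ⟨ha, ha'⟩
        exact ⟨V.inv_mem ha, by rw [inv_pow, ha', inv_one]⟩ }
  have hΩn : Ω.Normal := by
    constructor
    rintro x ⟨hx, hx'⟩ g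
    exact ⟨hVn.conj_mem x hx g, by rw [conj_pow, hx', mul_one, mul_inv_cancel]⟩
  have hΩle : Ω ≤ V := fun x hx => hx.1
  have hΩφ : Ω.map (φ : G →* G) = Ω := by
    apply le_antisymm
    · rintro _ ⟨x, ⟨hx, hx'⟩, rfl⟩
      refine ⟨by rw [← hVφ]; exact Subgroup.mem_map_of_mem _ hx, ?_⟩
      rw [← map_pow, hx', map_one]
    · rintro x ⟨hx, hx'⟩
      rw [← hVφ] at hx
      obtain ⟨y, hy, rfl⟩ := hx
      refine ⟨y, ⟨hy, ?_⟩, rfl⟩
      apply φ.injective
      rw [map_pow, map_one]
      exact hx'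
  obtain ⟨x, hx⟩ := exists_prime_orderOf_dvd_card' (G := V) p (Nat.minFac_dvd _)
  have hΩne : Ω ≠ ⊥ := by
    intro h
    have h1 : (x : G) ∈ Ω := ⟨x.2, by
      rw [← Subgroup.coe_pow, ← hx, pow_orderOf_eq_one, Subgroup.coe_one]⟩
    rw [h, Subgroup.mem_bot] at h1
    have h2 : x = 1 := Subtype.ext h1
    rw [h2, orderOf_one] at hx
    exact hp.one_lt.ne hx
  have hVp : ∀ y ∈ V, y ^ p = 1 := by
    rcases hmin Ω hΩn hΩφ hΩle with h | h
    · exact absurd h hΩne
    · intro y hy
      rw [← h] at hy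
      exact hy.2
  have hVpg : IsPGroup p V := isPGroup_of_forall_pow_eq_one hVp
  have q := (Group.isNilpotent_of_finite_tfae (G := G)).out 0 3
  rw [q]
  intro q' hq' Q
  have hQV : ((Q : Subgroup G) ⊔ V).Normal := by
    have h1 : ((Sylow.mapSurjective (QuotientGroup.mk'_surjective V) Q : Sylow q' (G ⧸ V)) :
        Subgroup (G ⧸ V)).Normal := inferInstance
    have h2 := h1.comap (QuotientGroup.mk' V)
    rwa [Sylow.coe_mapSurjective, Subgroup.comap_map_eq, QuotientGroup.ker_mk'] at h2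
  by_cases hqp : q' = p
  · subst hqp
    rwa [sup_of_le_left (hVpg.le_sylow_of_normal Q)] at hQV
  obtain ⟨g₀, hQ₀⟩ := exists_twist_sylow φ q' Q
  have hcop : (Nat.card (Q : Subgroup G)).Coprime p := by
    obtain ⟨k, hk⟩ := IsPGroup.iff_card.1 Q.isPGroup'
    rw [hk]
    exact Nat.Coprime.pow_left _ ((Nat.coprime_primes hq'.out hp).2 hqp)
  have hQC : (Q : Subgroup G) ≤ Subgroup.centralizer (V : Set G) :=
    le_centralizer_of_spl hr (spl_twist hφ g₀) V
      (by rw [map_twist_of_normal φ g₀ V]; exact hVφ) hcomm hVp Q hQ₀ hcop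
  have hQVN : (Q : Subgroup G) ⊔ V ≤ Subgroup.normalizer ((Q : Subgroup G) : Set G) :=
    sup_le Subgroup.le_normalizer
      ((Subgroup.le_centralizer_iff.1 hQC).trans (Subgroup.centralizer_le_normalizer _))
  rw [← Subgroup.normalizer_eq_top_iff, eq_top_iff]
  intro g _
  rw [mem_normalizer_iff_conj_smul]
  have h1 : MulAut.conj g • (Q : Subgroup G) ≤ (Q : Subgroup G) ⊔ V := by
    rw [← Subgroup.Normal.conj_smul_eq_self g ((Q : Subgroup G) ⊔ V)]
    exact Subgroup.pointwise_smul_le_pointwise_smul_iff.2 le_sup_left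
  have hi : ∀ R : Sylow q' G, (R : Subgroup G) ≤ (Q : Subgroup G) ⊔ V →
      ¬ q' ∣ (R : Subgroup G).relIndex ((Q : Subgroup G) ⊔ V) :=
    fun R hR hd => R.not_dvd_index (hd.trans (Subgroup.relIndex_dvd_index_of_le hR))
  have h2 := hi (g • Q) (by rw [Sylow.coe_subgroup_smul]; exact h1)
  rw [Sylow.coe_subgroup_smul] at h2
  obtain ⟨m, hm, hmQ⟩ := exists_conj_of_sylow_rel (p := q') le_sup_left h1 Q.isPGroup'
    (by rw [← Sylow.coe_subgroup_smul]; exact (g • Q).isPGroup') (hi Q le_sup_left) h2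
  have h3 := mem_normalizer_iff_conj_smul.1 (hQVN hm)
  exact smul_left_cancel _ (hmQ.trans h3.symm)

/-- **Kegel's theorem**: a finite group with a splitting automorphism of prime exponent `r` is
nilpotent. -/
theorem isNilpotent_of_spl [Finite G] {φ : G ≃* G} {r : ℕ} (hr : r.Prime) (hφ : Spl φ r) :
    Group.IsNilpotent G :=
  kegel_aux hr _ G φ hφ rfl

end Cfsg.Agent.Lib.Helper71.Kegel
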