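import Mathlib
import Cfsg.Prelude.Def_HallClasses
import Cfsg.Agent.Lib.Helper34.SylowIn

set_option autoImplicit false

namespace Cfsg.Agent.Lib.Helper71

open Cfsg.Agent.Lib.Helper34

variable {G : Type*} [Group G]

/-- left conjugate `g H g⁻¹` -/
abbrev cj (g : G) (H : Subgroup G) : Subgroup G := H.map (MulAut.conj g).toMonoidHom

/-- the pronormality condition for the single element `g` -/
def PC (H : Subgroup G) (g : G) : Prop := ∃ x ∈ H ⊔ cj g H, cj g H = cj x H

theorem isPronormal_iff_pc (H : Subgroup G) : Cfsg.IsPronormal H ↔ ∀ g, PC H g := Iff.rfl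

theorem cj_mul (g h : G) (H : Subgroup G) : cj (g * h) H = cj g (cj h H) :=
  (map_conj_map_conj g h H).symm

theorem cj_one (H : Subgroup G) : cj 1 H = H := map_conj_one H

theorem cj_mono (g : G) {H K : Subgroup G} (h : H ≤ K) : cj g H ≤ cj g K := Subgroup.map_mono h

theorem cj_of_mem {g : G} {H : Subgroup G} (hg : g ∈ H) : cj g H = H := map_conj_eq_self_of_mem hg

theorem cj_of_mem_normalizer {g : G} {H : Subgroup G}
    (hg : g ∈ Subgroup.normalizer (H : Set G)) : cj g H = H :=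
  map_conj_eq_self_of_mem_normalizer hg

theorem mem_normalizer_of_cj_eq {g : G} {H : Subgroup G} (hg : cj g H = H) :
    g ∈ Subgroup.normalizer (H : Set G) := mem_normalizer_of_map_conj_eq hg

theorem cj_le_of_mem {g : G} {H K : Subgroup G} (hg : g ∈ K) (h : H ≤ K) : cj g H ≤ K := by
  have := cj_mono g h
  rwa [cj_of_mem hg] at this

theorem cj_sup (g : G) (H K : Subgroup G) : cj g (H ⊔ K) = cj g H ⊔ cj g K := Subgroup.map_sup _ _ _

theorem cj_inf (g : G) (H K : Subgroup G) : cj g (H ⊓ K) = cj g H ⊓ cj g K := map_conj_inf _ _ _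

theorem cj_normal (g : G) (A : Subgroup G) [hA : A.Normal] : cj g A = A :=
  cj_of_mem_normalizer (by rw [Subgroup.normalizer_eq_top_iff.mpr hA]; trivial)

theorem cj_inv_cj (g : G) (H : Subgroup G) : cj g⁻¹ (cj g H) = H := by
  rw [← cj_mul, inv_mul_cancel, cj_one]

theorem cj_cj_inv (g : G) (H : Subgroup G) : cj g (cj g⁻¹ H) = H := by
  rw [← cj_mul, mul_inv_cancel, cj_one]

theorem cj_eq_of_le [Finite G] {g : G} {H : Subgroup G} (h : cj g H ≤ H) : cj g H = H := by
  exact Subgroup.eq_of_le_of_card_ge h (card_map_conj g H).ge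

theorem map_cj {G' : Type*} [Group G'] (f : G →* G') (g : G) (H : Subgroup G) :
    (cj g H).map f = cj (f g) (H.map f) := by
  ext x
  constructor
  · rintro ⟨y, ⟨z, hz, rfl⟩, rfl⟩
    exact ⟨f z, ⟨z, hz, rfl⟩, by simp⟩
  · rintro ⟨y, ⟨z, hz, rfl⟩, rfl⟩
    exact ⟨g * z * g⁻¹, ⟨z, hz, by simp⟩, by simp⟩

/-- L1 -/
theorem pc_of_mul {H : Subgroup G} {g y : G} (hy : y ∈ H ⊔ cj g H) (h : PC H (y⁻¹ * g)) : PC H g := by
  obtain ⟨x, hx, hxe⟩ := h
  have hle : H ⊔ cj (y⁻¹ * g) H ≤ H ⊔ cj g H := by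
    refine sup_le le_sup_left ?_
    rw [cj_mul]
    exact cj_le_of_mem (Subgroup.inv_mem _ hy) le_sup_right
  refine ⟨y * x, Subgroup.mul_mem _ hy (hle hx), ?_⟩
  rw [cj_mul, ← hxe, ← cj_mul, mul_inv_cancel_left]

/-- L2 -/
theorem pc_mul_normalizer {H : Subgroup G} {g n : G} (hn : n ∈ Subgroup.normalizer (H : Set G))
    (h : PC H g) : PC H (g * n) := by
  unfold PC at h ⊢
  rw [cj_mul, cj_of_mem_normalizer hn]
  exact h

/-- L3 -/
theorem pc_of_mem_normalizer {H : Subgroup G} {g : G} (hg : g ∈ Subgroup.normalizer (H : Set G)) :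
    PC H g :=
  ⟨1, Subgroup.one_mem _, by rw [cj_of_mem_normalizer hg, cj_one]⟩

/-- L4 : images of pronormal subgroups -/
theorem isPronormal_map {G' : Type*} [Group G'] {f : G →* G'} (hf : Function.Surjective f)
    {H : Subgroup G} (h : Cfsg.IsPronormal H) : Cfsg.IsPronormal (H.map f) := by
  intro g'
  obtain ⟨g, rfl⟩ := hf g'
  obtain ⟨x, hx, hxe⟩ := h g
  refine ⟨f x, ?_, ?_⟩
  · change f x ∈ H.map f ⊔ cj (f g) (H.map f)
    rw [← map_cj, ← Subgroup.map_sup]
    exact Subgroup.mem_map_of_mem f hx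
  · change cj (f g) (H.map f) = cj (f x) (H.map f)
    rw [← map_cj, ← map_cj]
    exact congrArg _ hxe

/-- L5 : pronormality can be checked modulo a normal subgroup contained in `H` -/
theorem isPronormal_of_map {G' : Type*} [Group G'] {f : G →* G'}
    {H : Subgroup G} (hker : f.ker ≤ H) (h : Cfsg.IsPronormal (H.map f)) : Cfsg.IsPronormal H := by
  intro g
  obtain ⟨x', hx', hxe⟩ := h (f g)
  change x' ∈ H.map f ⊔ cj (f g) (H.map f) at hx'
  change cj (f g) (H.map f) = cj x' (H.map f) at hxe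
  rw [← map_cj, ← Subgroup.map_sup] at hx'
  obtain ⟨x, hx, rfl⟩ := hx'
  refine ⟨x, hx, ?_⟩
  rw [← map_cj, ← map_cj] at hxe
  have hk : ∀ y : G, f.ker ≤ cj y H := by
    intro y
    have := cj_mono y hker
    rwa [cj_normal] at this
  have := congrArg (Subgroup.comap f) hxe
  rwa [Subgroup.comap_map_eq_self (hk g), Subgroup.comap_map_eq_self (hk x)] at this

theorem isPronormal_cj {H : Subgroup G} (u : G) (h : Cfsg.IsPronormal (cj u H)) :
    Cfsg.IsPronormal H := by
  have := isPronormal_map (f := (MulAut.conj u⁻¹).toMonoidHom) (MulAut.conj u⁻¹).surjective h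
  change Cfsg.IsPronormal (cj u⁻¹ (cj u H)) at this
  rwa [cj_inv_cj] at this

theorem map_subtype_cj (Y : Subgroup G) (y : Y) (K : Subgroup Y) :
    (cj y K).map Y.subtype = cj (y : G) (K.map Y.subtype) := map_cj Y.subtype y K

/-- L6 -/
theorem isPronormal_subgroupOf {H Y : Subgroup G} (hHY : H ≤ Y) (h : Cfsg.IsPronormal H) :
    Cfsg.IsPronormal (H.subgroupOf Y) := by
  intro y
  obtain ⟨x, hx, hxe⟩ := h (y : G)
  change x ∈ H ⊔ cj (y : G) H at hx
  change cj (y : G) H = cj x H at hxe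
  have hmap : (H.subgroupOf Y).map Y.subtype = H := Subgroup.map_subgroupOf_eq_of_le hHY
  have hxY : x ∈ Y := (sup_le hHY (cj_le_of_mem y.2 hHY)) hx
  refine ⟨⟨x, hxY⟩, ?_, ?_⟩
  · change (⟨x, hxY⟩ : Y) ∈ H.subgroupOf Y ⊔ cj y (H.subgroupOf Y)
    have : x ∈ (H.subgroupOf Y ⊔ cj y (H.subgroupOf Y)).map Y.subtype := by
      rw [Subgroup.map_sup, map_subtype_cj, hmap]; exact hx
    obtain ⟨z, hz, hzx⟩ := this
    have : z = ⟨x, hxY⟩ := Subtype.ext hzx
    rwa [this] at hz
  · change cj y (H.subgroupOf Y) = cj (⟨x, hxY⟩ : Y) (H.subgroupOf Y)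
    apply Subgroup.map_injective Y.subtype_injective
    rw [map_subtype_cj, map_subtype_cj, hmap]
    exact hxe

/-- L7 -/
theorem pc_of_isPronormal_subgroupOf {H Y : Subgroup G} (hHY : H ≤ Y)
    (h : Cfsg.IsPronormal (H.subgroupOf Y)) {y : G} (hy : y ∈ Y) : PC H y := by
  obtain ⟨x, hx, hxe⟩ := h ⟨y, hy⟩
  change x ∈ H.subgroupOf Y ⊔ cj (⟨y, hy⟩ : Y) (H.subgroupOf Y) at hx
  change cj (⟨y, hy⟩ : Y) (H.subgroupOf Y) = cj x (H.subgroupOf Y) at hxe
  have hmap : (H.subgroupOf Y).map Y.subtype = H := Subgroup.map_subgroupOf_eq_of_le hHY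
  refine ⟨x, ?_, ?_⟩
  · have := Subgroup.mem_map_of_mem Y.subtype hx
    rw [Subgroup.map_sup, map_subtype_cj, hmap] at this
    exact this
  · have := congrArg (Subgroup.map Y.subtype) hxe
    rw [map_subtype_cj, map_subtype_cj, hmap] at this
    exact this

/-- M3 : Frattini property of pronormal subgroups -/
theorem map_normalizer_of_isPronormal (A : Subgroup G) [A.Normal] {K : Subgroup G}
    (h : Cfsg.IsPronormal K) :
    (Subgroup.normalizer (K : Set G)).map (QuotientGroup.mk' A) =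
      Subgroup.normalizer ((K.map (QuotientGroup.mk' A) : Subgroup (G ⧸ A)) : Set (G ⧸ A)) := by
  apply le_antisymm (Subgroup.le_normalizer_map _)
  intro y hy
  obtain ⟨g, rfl⟩ := QuotientGroup.mk'_surjective A y
  obtain ⟨x, hx, hxe⟩ := h g
  change x ∈ K ⊔ cj g K at hx
  change cj g K = cj x K at hxe
  have h1 : QuotientGroup.mk' A x ∈ K.map (QuotientGroup.mk' A) := by
    have := Subgroup.mem_map_of_mem (QuotientGroup.mk' A) hx
    rw [Subgroup.map_sup, map_cj, cj_of_mem_normalizer hy, sup_idem] at this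
    exact this
  obtain ⟨k, hk, hkx⟩ := h1
  have hn : x⁻¹ * g ∈ Subgroup.normalizer (K : Set G) := by
    apply mem_normalizer_of_cj_eq
    rw [cj_mul, hxe, cj_inv_cj]
  refine ⟨k * (x⁻¹ * g), Subgroup.mul_mem _ (Subgroup.le_normalizer hk) hn, ?_⟩
  rw [map_mul, map_mul, map_inv, hkx]
  group

end Cfsg.Agent.Lib.Helper71
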