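import Mathlib
import Cfsg.Prelude.Def_HallClasses
import Cfsg.Agent.Lib.Helper34.SylowIn
import Cfsg.Agent.Lib.Helper71.Pronormal

set_option autoImplicit false

namespace Cfsg.Agent.Lib.Helper71

open Cfsg.Agent.Lib.Helper34

variable {G : Type*} [Group G]

/-- every overgroup of a Sylow `p`-subgroup is pronormal -/
def OSP (p : ℕ) (X : Type*) [Group X] : Prop :=
  ∀ K : Subgroup X, (∃ P : Sylow p X, (P : Subgroup X) ≤ K) → Cfsg.IsPronormal K

theorem coe_smul_sylow {p : ℕ} (u : G) (S : Sylow p G) :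
    ((u • S : Sylow p G) : Subgroup G) = cj u (S : Subgroup G) := by
  ext y
  rw [Sylow.coe_subgroup_smul, Subgroup.mem_pointwise_smul_iff_inv_smul_mem, mem_map_conj]
  simp [MulAut.smul_def, MulAut.conj_apply]

variable [Finite G] {p : ℕ} [hp : Fact p.Prime]

theorem eq_inf_of_isSylowIn {A T : Subgroup G} (hT : IsSylowIn p T A) (S : Sylow p G)
    (hTS : T ≤ S) : T = (S : Subgroup G) ⊓ A :=
  hT.eq_of_le inf_le_right (S.2.to_le inf_le_left) (le_inf hTS hT.1)

theorem sylow_le_normalizer {A T : Subgroup G} [A.Normal] (hT : IsSylowIn p T A) (S : Sylow p G)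
    (hTS : T ≤ S) : (S : Subgroup G) ≤ Subgroup.normalizer (T : Set G) := by
  intro s hs
  apply mem_normalizer_of_cj_eq
  rw [eq_inf_of_isSylowIn hT S hTS, cj_inf, cj_of_mem hs, cj_normal]

theorem exists_sylow_le_of_not_dvd_index {K : Subgroup G} (h : ¬ p ∣ K.index) :
    ∃ P : Sylow p G, (P : Subgroup G) ≤ K := by
  obtain ⟨Q, hQ, -⟩ := exists_isSylowIn_ge (p := p) (L := K) (R := ⊥) bot_le IsPGroup.of_bot
  have hidx : ¬ p ∣ Q.index := by
    rw [← Subgroup.relIndex_mul_index hQ.1]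
    exact Nat.Prime.not_dvd_mul hp.out hQ.2.2 h
  exact ⟨hQ.2.1.toSylow hidx, hQ.1⟩

/-- conjugacy of Sylow subgroups inside a subgroup `B`, ambient form -/
theorem exists_cj_eq_of_isSylowIn {B T : Subgroup G} (hT : IsSylowIn p T B) {g : G}
    (hg : cj g T ≤ B) : ∃ b ∈ B, cj (b * g) T = T := by
  obtain ⟨b, hb, hle⟩ := hT.exists_conj_le hg (hT.2.1.map _)
  refine ⟨b, hb, ?_⟩
  rw [cj_mul]
  exact Subgroup.eq_of_le_of_card_ge hle (by
    rw [card_map_conj, card_map_conj])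

/-- M2 -/
theorem osp_quot_of_osp {A T : Subgroup G} [A.Normal] (hT : IsSylowIn p T A)
    [(T.subgroupOf (Subgroup.normalizer (T : Set G))).Normal] (h : OSP p G) :
    OSP p (↥(Subgroup.normalizer (T : Set G)) ⧸ T.subgroupOf (Subgroup.normalizer (T : Set G))) := by
  rintro K ⟨P, hPK⟩
  set Y := Subgroup.normalizer (T : Set G) with hY
  set π := QuotientGroup.mk' (T.subgroupOf Y) with hπ
  have hsurj : Function.Surjective π := QuotientGroup.mk'_surjective _
  set K' := K.comap π with hK'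
  set K₀ := K'.map Y.subtype with hK₀
  have hK₀Y : K₀ ≤ Y := Subgroup.map_subtype_le _
  have hsub : K₀.subgroupOf Y = K' := by
    rw [Subgroup.subgroupOf, hK₀, Subgroup.comap_map_eq_self_of_injective Y.subtype_injective]
  obtain ⟨S, hTS⟩ := hT.2.1.exists_le_sylow
  have hSY : (S : Subgroup G) ≤ Y := sylow_le_normalizer hT S hTS
  have hidx : ¬ p ∣ K₀.index := by
    rw [← Subgroup.relIndex_mul_index hK₀Y]
    apply Nat.Prime.not_dvd_mul hp.out
    · have e : K₀.relIndex Y = K.index := by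
        rw [Subgroup.relIndex, hsub, hK', Subgroup.index_comap_of_surjective _ hsurj]
      rw [e]
      exact fun hd => P.not_dvd_index (hd.trans (Subgroup.index_dvd_of_le hPK))
    · exact fun hd => S.not_dvd_index (hd.trans (Subgroup.index_dvd_of_le hSY))
  have h1 : Cfsg.IsPronormal K₀ := h K₀ (exists_sylow_le_of_not_dvd_index hidx)
  have h2 : Cfsg.IsPronormal K' := hsub ▸ isPronormal_subgroupOf hK₀Y h1
  have h3 := isPronormal_map hsurj h2
  rwa [hK', Subgroup.map_comap_eq_self_of_surjective hsurj] at h3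

/-- M4 (1) -/
theorem osp_of_self_normalizing
    (hsn : ∀ P : Sylow p G, Subgroup.normalizer ((P : Subgroup G) : Set G) = P) : OSP p G := by
  rintro K ⟨P, hPK⟩ g
  change ∃ x ∈ K ⊔ cj g K, cj g K = cj x K
  have hP : IsSylowIn p (P : Subgroup G) (K ⊔ cj g K) :=
    (Sylow.isSylowIn_top P).of_le (hPK.trans le_sup_left) le_top
  obtain ⟨b, hb, hbe⟩ := exists_cj_eq_of_isSylowIn hP (g := g) ((cj_mono g hPK).trans le_sup_right)
  have h1 : b * g ∈ K := by
    apply hPK
    rw [← hsn P]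
    exact mem_normalizer_of_cj_eq hbe
  refine ⟨b⁻¹, Subgroup.inv_mem _ hb, ?_⟩
  have h2 : cj (b * g) K = K := cj_of_mem h1
  rw [cj_mul] at h2
  rw [← h2, cj_inv_cj]
  rw [h2]

/-- M4 (2) -/
theorem normalizer_eq_of_self_normalizing
    (hsn : ∀ P : Sylow p G, Subgroup.normalizer ((P : Subgroup G) : Set G) = P)
    {K : Subgroup G} (hK : ∃ P : Sylow p G, (P : Subgroup G) ≤ K) :
    Subgroup.normalizer (K : Set G) = K := by
  obtain ⟨P, hPK⟩ := hK
  apply le_antisymm _ Subgroup.le_normalizer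
  intro g hg
  have hP : IsSylowIn p (P : Subgroup G) K := (Sylow.isSylowIn_top P).of_le hPK le_top
  have hle : cj g (P : Subgroup G) ≤ K := by
    have := cj_mono g hPK
    rwa [cj_of_mem_normalizer hg] at this
  obtain ⟨b, hb, hbe⟩ := exists_cj_eq_of_isSylowIn hP hle
  have h1 : b * g ∈ K := by
    apply hPK
    rw [← hsn P]
    exact mem_normalizer_of_cj_eq hbe
  have : g = b⁻¹ * (b * g) := by group
  rw [this]
  exact K.mul_mem (K.inv_mem hb) h1

/-- M1, core case `T ≤ S ≤ H`. -/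
theorem isPronormal_core {A : Subgroup G} [A.Normal] (hA : OSP p ↥A) (hQ : OSP p (G ⧸ A))
    {T : Subgroup G} (P₀ : Sylow p ↥A) (hP₀ : (P₀ : Subgroup ↥A).map A.subtype = T)
    [(T.subgroupOf (Subgroup.normalizer (T : Set G))).Normal]
    (hY : OSP p (↥(Subgroup.normalizer (T : Set G)) ⧸ T.subgroupOf (Subgroup.normalizer (T : Set G))))
    (H : Subgroup G)
    (hii : (Subgroup.normalizer (H : Set G)).map (QuotientGroup.mk' A) =
      Subgroup.normalizer ((H.map (QuotientGroup.mk' A) : Subgroup (G ⧸ A)) : Set (G ⧸ A)))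
    (S : Sylow p G) (hTS : T ≤ S) (hSH : (S : Subgroup G) ≤ H) : Cfsg.IsPronormal H := by
  have hT : IsSylowIn p T A := hP₀ ▸ Sylow.isSylowIn_map P₀
  set Y := Subgroup.normalizer (T : Set G) with hYdef
  set π := QuotientGroup.mk' A with hπ
  have hπs : Function.Surjective π := QuotientGroup.mk'_surjective A
  have hTH : T ≤ H := hTS.trans hSH
  have hSY : (S : Subgroup G) ≤ Y := sylow_le_normalizer hT S hTS
  set B := H ⊓ A with hB
  set D := H ⊓ Y with hD
  have hTB : IsSylowIn p T B := hT.of_le (le_inf hTH hT.1) inf_le_right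
  have hBnorm : ∀ h ∈ H, cj h B = B := by
    intro h hh
    rw [hB, cj_inf, cj_of_mem hh, cj_normal]
  -- Frattini
  have hfrat : H = B ⊔ D := by
    apply le_antisymm _ (sup_le inf_le_left inf_le_left)
    intro h hh
    have hle : cj h T ≤ B := by
      have := cj_mono h hTB.1
      rwa [hBnorm h hh] at this
    obtain ⟨b, hb, hbe⟩ := exists_cj_eq_of_isSylowIn hTB hle
    have h1 : b * h ∈ D := ⟨H.mul_mem hb.1 hh, mem_normalizer_of_cj_eq hbe⟩
    have : h = b⁻¹ * (b * h) := by group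
    rw [this]
    exact Subgroup.mul_mem _ (Subgroup.mem_sup_left (B.inv_mem hb)) (Subgroup.mem_sup_right h1)
  -- pronormality facts
  have hHbar : Cfsg.IsPronormal (H.map π) :=
    hQ _ ⟨S.mapSurjective hπs, by
      rw [Sylow.coe_mapSurjective]; exact Subgroup.map_mono hSH⟩
  have hBA : Cfsg.IsPronormal (B.subgroupOf A) := by
    apply hA _ ⟨P₀, ?_⟩
    intro x hx
    rw [Subgroup.mem_subgroupOf]
    have : (x : G) ∈ T := hP₀ ▸ Subgroup.mem_map_of_mem A.subtype hx
    exact ⟨hTH this, x.2⟩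
  have hDY : Cfsg.IsPronormal (D.subgroupOf Y) := by
    apply isPronormal_of_map (f := QuotientGroup.mk' (T.subgroupOf Y))
    · rw [QuotientGroup.ker_mk']
      intro x hx
      rw [Subgroup.mem_subgroupOf] at hx ⊢
      exact ⟨hTH hx, x.2⟩
    · apply hY _ ⟨(S.subtype hSY).mapSurjective (QuotientGroup.mk'_surjective _), ?_⟩
      rw [Sylow.coe_mapSurjective]
      apply Subgroup.map_mono
      intro x hx
      rw [Sylow.coe_subtype, Subgroup.mem_subgroupOf] at hx
      rw [Subgroup.mem_subgroupOf]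
      exact ⟨hSH hx, x.2⟩
  intro g
  change PC H g
  -- Step 1
  obtain ⟨x', hx', hxe⟩ := hHbar (π g)
  change x' ∈ H.map π ⊔ cj (π g) (H.map π) at hx'
  change cj (π g) (H.map π) = cj x' (H.map π) at hxe
  rw [← map_cj, ← Subgroup.map_sup] at hx'
  obtain ⟨x, hx, rfl⟩ := hx'
  apply pc_of_mul hx
  have h1 : π (x⁻¹ * g) ∈ Subgroup.normalizer ((H.map π : Subgroup (G ⧸ A)) : Set (G ⧸ A)) := by
    apply mem_normalizer_of_cj_eq
    rw [map_mul, map_inv, cj_mul, hxe, cj_inv_cj]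
  rw [← hii] at h1
  obtain ⟨n, hn, hne⟩ := h1
  have ha : x⁻¹ * g * n⁻¹ ∈ A := by
    rw [← QuotientGroup.eq_one_iff, ← QuotientGroup.mk'_apply, ← hπ, map_mul, map_inv, hne]
    group
  have e1 : x⁻¹ * g = (x⁻¹ * g * n⁻¹) * n := by group
  rw [e1]
  apply pc_mul_normalizer hn
  generalize x⁻¹ * g * n⁻¹ = a at ha
  -- Step 2
  obtain ⟨y, hy, hye⟩ := pc_of_isPronormal_subgroupOf (inf_le_right : B ≤ A) hBA ha
  have hyH : y ∈ H ⊔ cj a H := (sup_le_sup inf_le_left (cj_mono a inf_le_left)) hy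
  have hyA : y ∈ A := (sup_le inf_le_right (cj_le_of_mem ha inf_le_right)) hy
  apply pc_of_mul hyH
  have ha2 : cj (y⁻¹ * a) B = B := by rw [cj_mul, hye, cj_inv_cj]
  generalize y⁻¹ * a = a₂ at ha2
  -- Step 3
  have hle : cj a₂ T ≤ B := by
    have := cj_mono a₂ hTB.1
    rwa [ha2] at this
  obtain ⟨b, hb, hbe⟩ := exists_cj_eq_of_isSylowIn hTB hle
  have hbH : b⁻¹ ∈ H ⊔ cj a₂ H := Subgroup.mem_sup_left (H.inv_mem hb.1)
  apply pc_of_mul hbH
  rw [inv_inv]
  have ha3 : cj (b * a₂) B = B := by rw [cj_mul, ha2, cj_of_mem hb]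
  have ha3Y : b * a₂ ∈ Y := mem_normalizer_of_cj_eq hbe
  generalize b * a₂ = a₃ at ha3 ha3Y
  -- Step 4
  obtain ⟨z, hz, hze⟩ := pc_of_isPronormal_subgroupOf (inf_le_right : D ≤ Y) hDY ha3Y
  have hzH : z ∈ H ⊔ cj a₃ H := (sup_le_sup inf_le_left (cj_mono a₃ inf_le_left)) hz
  apply pc_of_mul hzH
  apply pc_of_mem_normalizer
  apply mem_normalizer_of_cj_eq
  have hDN : D ≤ Subgroup.normalizer (B : Set G) := fun d hd => mem_normalizer_of_cj_eq (hBnorm d hd.1)
  have hzN : z ∈ Subgroup.normalizer (B : Set G) := by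
    refine (sup_le hDN ?_) hz
    have h2 := cj_mono a₃ hDN
    have h3 : cj a₃ (Subgroup.normalizer (B : Set G)) = Subgroup.normalizer (B : Set G) := by
      have := normalizer_map_conj a₃ B
      change Subgroup.normalizer ((cj a₃ B : Subgroup G) : Set G) = _ at this
      rw [ha3] at this
      exact this.symm
    rwa [h3] at h2
  have hcB : cj (z⁻¹ * a₃) B = B := by
    rw [cj_mul, ha3, cj_of_mem_normalizer (Subgroup.inv_mem _ hzN)]
  have hcD : cj (z⁻¹ * a₃) D = D := by rw [cj_mul, hze, cj_inv_cj]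
  conv_lhs => rw [hfrat]
  rw [cj_sup, hcB, hcD, ← hfrat]

/-- M1 -/
theorem osp_of_local {A : Subgroup G} [A.Normal] (hA : OSP p ↥A) (hQ : OSP p (G ⧸ A))
    {T : Subgroup G} (hT : ∃ P : Sylow p ↥A, (P : Subgroup ↥A).map A.subtype = T)
    [(T.subgroupOf (Subgroup.normalizer (T : Set G))).Normal]
    (hY : OSP p (↥(Subgroup.normalizer (T : Set G)) ⧸ T.subgroupOf (Subgroup.normalizer (T : Set G))))
    (hii : ∀ K : Subgroup G, (∃ P : Sylow p G, (P : Subgroup G) ≤ K) →
      (Subgroup.normalizer (K : Set G)).map (QuotientGroup.mk' A) =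
      Subgroup.normalizer ((K.map (QuotientGroup.mk' A) : Subgroup (G ⧸ A)) : Set (G ⧸ A))) :
    OSP p G := by
  rintro H ⟨S, hSH⟩
  obtain ⟨P₀, hP₀⟩ := hT
  have hTp : IsPGroup p T := hP₀ ▸ P₀.2.map _
  obtain ⟨S', hS'⟩ := hTp.exists_le_sylow
  obtain ⟨u, rfl⟩ := MulAction.exists_smul_eq G S S'
  apply isPronormal_cj u
  have hle : ((u • S : Sylow p G) : Subgroup G) ≤ cj u H := by
    rw [coe_smul_sylow]; exact cj_mono u hSH
  exact isPronormal_core hA hQ P₀ hP₀ hY (cj u H) (hii _ ⟨u • S, hle⟩) (u • S) hS' hle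

end Cfsg.Agent.Lib.Helper71
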