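import Cfsg.Agent.Lib.Helper71.TICentSuz
import Cfsg.Agent.Lib.Helper71.CCZas
import Cfsg.Agent.Lib.Helper25.NilpotentCoprime
import Cfsg.Agent.Lib.Helper14.ExcIso2
import Cfsg.Agent.S0183
import Cfsg.Agent.S0215
import Cfsg.Agent.S1230
import Cfsg.Agent.S1473

set_option autoImplicit false

/-! # Groups all of whose element centralizers are T.I.: the non-solvable case -/

namespace Cfsg.Agent.Lib.Helper71.CC

variable {G : Type*} [Group G]

theorem inverts_of_fpf [Finite G] {N : Subgroup G} [hN : N.Normal] {s : G} (hs : s * s = 1)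
    (hfpf : ∀ n ∈ N, s * n * s⁻¹ = n → n = 1) : ∀ n ∈ N, s * n * s⁻¹ = n⁻¹ := by
  intro n hn
  have h1 : MonoidHom.FixedPointFree (MulAut.conjNormal s : N ≃* N) := by
    intro m hm
    apply Subtype.ext
    apply hfpf m m.2
    have := congrArg Subtype.val hm
    simpa using this
  have h2 : Function.Involutive (MulAut.conjNormal s : N ≃* N) := by
    intro m
    apply Subtype.ext
    rw [MulAut.conjNormal_apply, MulAut.conjNormal_apply]
    have : s * (s * (m : G) * s⁻¹) * s⁻¹ = (s * s) * m * (s * s)⁻¹ := by group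
    rw [this, hs]
    simp
  have h3 := congrFun (h1.coe_eq_inv_of_involutive h2) ⟨n, hn⟩
  simpa using congrArg Subtype.val h3

variable {A : Subgroup G} {z : G}

/-- the point stabiliser `N_G(A)` has no normal complement -/
theorem CCS.no_complement [Finite G] (h : CCS A z) (h2 : ∃ t ∈ A, t ≠ 1 ∧ t * t = 1 ∧ t ≠ z)
    (N : Subgroup G) (hN : N.Normal) (hNH : N ⊓ HA A = ⊥)
    (hG : ∀ g : G, ∃ n ∈ N, n⁻¹ * g ∈ HA A) : False := by
  obtain ⟨t, htA, ht1, htt, htz⟩ := h2
  have hfpf : ∀ s ∈ A, s ≠ 1 → ∀ n ∈ N, s * n * s⁻¹ = n → n = 1 := by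
    intro s hs hs1 n hn hsn
    have hnA : n ∈ A := h.cc s hs hs1 n (mul_inv_eq_iff_eq_mul.mp hsn).symm
    have : n ∈ N ⊓ HA A := ⟨hn, CCS.A_le hnA⟩
    rw [hNH] at this
    exact Subgroup.mem_bot.mp this
  have hz := inverts_of_fpf h.zz (hfpf z h.zA h.z1)
  have ht := inverts_of_fpf htt (hfpf t htA ht1)
  have hzt1 : z * t ≠ 1 := by
    intro hh
    apply htz
    calc t = (z * z) * t := by rw [h.zz, one_mul]
      _ = z * (z * t) := by rw [mul_assoc]
      _ = z := by rw [hh, mul_one]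
  have hN1 : ∀ n ∈ N, n = 1 := by
    intro n hn
    apply hfpf (z * t) (mul_mem h.zA htA) hzt1 n hn
    have : z * t * n * (z * t)⁻¹ = z * (t * n * t⁻¹) * z⁻¹ := by group
    rw [this, ht n hn, hz _ (inv_mem hn), inv_inv]
  obtain ⟨g, hg⟩ := h.nn
  obtain ⟨n, hn, hng⟩ := hG g
  rw [hN1 n hn, inv_one, one_mul] at hng
  exact hg hng

end Cfsg.Agent.Lib.Helper71.CC

namespace Cfsg.Agent.Lib.Helper71.TIC

open Cfsg.Agent.Lib.Helper71.CC

variable {G : Type*} [Group G]

/-- a central involution of a Sylow 2-subgroup -/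
theorem exists_central_invol [Finite G] (heven : Even (Nat.card G)) (T : Sylow 2 G) :
    ∃ z : G, z ∈ T ∧ orderOf z = 2 ∧ ∀ s ∈ T, Commute z s := by
  have : Fact (Nat.Prime 2) := ⟨Nat.prime_two⟩
  have hTne : (T : Subgroup G) ≠ ⊥ := T.ne_bot_of_dvd_card heven.two_dvd
  have hnt : Nontrivial T := (Subgroup.nontrivial_iff_ne_bot _).mpr hTne
  have hcen := T.isPGroup'.center_nontrivial
  obtain ⟨k, hk⟩ := IsPGroup.iff_card.mp (T.isPGroup'.to_subgroup (Subgroup.center T))
  have hk0 : k ≠ 0 := by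
    intro h0
    rw [h0, pow_zero] at hk
    have := Finite.one_lt_card (α := Subgroup.center T)
    omega
  have hdvd : 2 ∣ Nat.card (Subgroup.center T) := by
    rw [hk]; exact dvd_pow_self 2 hk0
  obtain ⟨z, hz⟩ := exists_prime_orderOf_dvd_card' 2 hdvd
  refine ⟨((z : T) : G), (z : T).2, ?_, ?_⟩
  · rw [Subgroup.orderOf_coe, Subgroup.orderOf_coe, hz]
  · intro s hs
    have := Subgroup.mem_center_iff.mp z.2 ⟨s, hs⟩
    exact (congrArg Subtype.val this).symm

theorem ccs_cc [Finite G] (h : PT G) (T : Sylow 2 G) {z : G} (hz2 : orderOf z = 2)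
    (hzT : ∀ s ∈ T, Commute z s) :
    ∀ a ∈ Subgroup.centralizer ({z} : Set G), a ≠ 1 → ∀ x : G, x * a = a * x →
      x ∈ Subgroup.centralizer ({z} : Set G) := by
  have : Fact (Nat.Prime 2) := ⟨Nat.prime_two⟩
  have hz1 : z ≠ 1 := by
    intro hh
    rw [hh, orderOf_one] at hz2
    omega
  have hTA : (T : Subgroup G) ≤ Subgroup.centralizer ({z} : Set G) := by
    intro s hs
    exact Subgroup.mem_centralizer_singleton_iff.mpr (hzT s hs).symm
  have hAnil : Group.IsNilpotent (Subgroup.centralizer ({z} : Set G)) := h.cn z hz1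
  intro a ha ha1 x hxa
  have hza : Commute z a := (Subgroup.mem_centralizer_singleton_iff.mp ha).symm
  have hCnil : Group.IsNilpotent (Subgroup.centralizer ({a} : Set G)) := h.cn a ha1
  obtain ⟨u, hu, v, hv, hxuv, ⟨k, hk⟩, hvc⟩ :=
    Cfsg.Agent.Lib.Helper25.exists_pPart_mul_pPrimePart 2 Nat.prime_two x
  have hxC : x ∈ Subgroup.centralizer ({a} : Set G) := Subgroup.mem_centralizer_singleton_iff.mpr hxa
  have hle : Subgroup.zpowers x ≤ Subgroup.centralizer ({a} : Set G) :=
    (Subgroup.zpowers_le).mpr hxC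
  have huC := hle hu
  have hvC := hle hv
  have hzC : z ∈ Subgroup.centralizer ({a} : Set G) :=
    Subgroup.mem_centralizer_singleton_iff.mpr hza
  have hvz : v * z = z * v :=
    Cfsg.Agent.Lib.Helper25.commute_of_coprime_orderOf_of_mem hCnil hvC hzC (by rw [hz2]; exact hvc)
  have hua : u * a * u⁻¹ = a := by
    rw [Subgroup.mem_centralizer_singleton_iff.mp huC, mul_inv_cancel_right]
  have huA : ∀ c : G, Commute z c → Commute z (u * c * u⁻¹) :=
    h z a u ha1 hza (by rw [hua]; exact hza)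
  have huN : u ∈ Subgroup.normalizer ((T : Subgroup G) : Set G) := by
    apply mem_normalizer_of_conj_le
    intro s hs
    obtain ⟨m, hm⟩ := IsPGroup.iff_orderOf.mp T.isPGroup' ⟨s, hs⟩
    have hm' : orderOf (u * s * u⁻¹) = 2 ^ m := by
      rw [← hm, Subgroup.orderOf_mk]
      simpa using (MulAut.conj u).orderOf_eq s
    exact Cfsg.Agent.Lib.Helper25.mem_sylow_of_mem_nilpotent hAnil 2 T hTA
      (Subgroup.mem_centralizer_singleton_iff.mpr (huA s (hzT s hs)).symm) m hm'
  have hup : IsPGroup 2 (Subgroup.zpowers u) := by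
    apply IsPGroup.of_card (n := k)
    rw [Nat.card_zpowers, hk]
  have huT : u ∈ (T : Subgroup G) := by
    have h1 : u ∈ Subgroup.zpowers u ⊓ Subgroup.normalizer (T : Set G) :=
      ⟨Subgroup.mem_zpowers u, huN⟩
    rw [hup.inf_normalizer_sylow T] at h1
    exact h1.2
  rw [hxuv]
  exact mul_mem (hTA huT) (Subgroup.mem_centralizer_singleton_iff.mpr hvz)

theorem ccs_nn [Finite G] (h : PT G) (hns : ¬ Group.IsSolvable G) (T : Sylow 2 G) {z : G}
    (hz1 : z ≠ 1) (hzT : ∀ s ∈ T, Commute z s) :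
    ∃ g : G, g ∉ Subgroup.normalizer (Subgroup.centralizer ({z} : Set G) : Set G) := by
  have : Fact (Nat.Prime 2) := ⟨Nat.prime_two⟩
  by_contra hcon
  push Not at hcon
  apply hns
  have hTA : (T : Subgroup G) ≤ Subgroup.centralizer ({z} : Set G) := by
    intro s hs
    exact Subgroup.mem_centralizer_singleton_iff.mpr (hzT s hs).symm
  have hn : (Subgroup.centralizer ({z} : Set G)).Normal :=
    Subgroup.normalizer_eq_top_iff.mp (eq_top_iff.mpr fun g _ => hcon g)
  have hAnil : Group.IsNilpotent (Subgroup.centralizer ({z} : Set G)) := h.cn z hz1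
  rw [Group.isSolvable_iff_subgroup_quotient (Subgroup.centralizer ({z} : Set G))]
  refine ⟨inferInstance, ?_⟩
  apply Cfsg.Agent.S0183.result _ (Cfsg.Agent.S1473.result h.cn _ inferInstance)
  have h1 : (Subgroup.centralizer ({z} : Set G)).index ∣ (T : Subgroup G).index :=
    Subgroup.index_dvd_of_le hTA
  have h2 : Odd (T : Subgroup G).index := by
    rw [← Nat.not_even_iff_odd, even_iff_two_dvd]
    exact T.not_dvd_index
  exact Odd.of_dvd_nat h2 h1

theorem ccs_h2 [Finite G] (h : PT G) (hns : ¬ Group.IsSolvable G) (T : Sylow 2 G) {z : G}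
    (hz2 : orderOf z = 2) (hzT' : z ∈ T) (hzT : ∀ s ∈ T, Commute z s) :
    ∃ t ∈ Subgroup.centralizer ({z} : Set G), t ≠ 1 ∧ t * t = 1 ∧ t ≠ z := by
  by_contra hcon
  push Not at hcon
  apply hns
  have hz1 : z ≠ 1 := by
    intro hh
    rw [hh, orderOf_one] at hz2
    omega
  have hzz : z * z = 1 := by
    rw [← sq, ← hz2, pow_orderOf_eq_one]
  have hTA : (T : Subgroup G) ≤ Subgroup.centralizer ({z} : Set G) := by
    intro s hs
    exact Subgroup.mem_centralizer_singleton_iff.mpr (hzT s hs).symm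
  obtain ⟨N, hNn, hNodd, hN⟩ := Cfsg.Agent.S0215.result T z hz2 hzT' (by
    intro g hg
    exact hcon _ (hTA hg) (conj_ne_one hz1) (conj_sq hzz))
  have hNsol : Group.IsSolvable N := Cfsg.Agent.S0183.result hNodd (h.subgroup N).cn
  rw [Group.isSolvable_iff_subgroup_quotient N]
  refine ⟨hNsol, ?_⟩
  have hCN := Cfsg.Agent.S1473.result h.cn N hNsol
  have hzN : (QuotientGroup.mk z : G ⧸ N) ≠ 1 := by
    intro hh
    rw [QuotientGroup.eq_one_iff] at hh
    have h1 := orderOf_dvd_natCard (⟨z, hh⟩ : N)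
    rw [Subgroup.orderOf_mk, hz2] at h1
    exact (Nat.not_even_iff_odd.mpr hNodd) (even_iff_two_dvd.mpr h1)
  have hnil := hCN _ hzN
  have htop : Subgroup.centralizer ({(QuotientGroup.mk z : G ⧸ N)} : Set (G ⧸ N)) = ⊤ := by
    rw [eq_top_iff]
    intro x _
    obtain ⟨g, rfl⟩ := QuotientGroup.mk_surjective x
    rw [Subgroup.mem_centralizer_singleton_iff, ← QuotientGroup.mk_mul, ← QuotientGroup.mk_mul,
      QuotientGroup.eq]
    have e : (g * z)⁻¹ * (z * g) = (z⁻¹ * (z * g⁻¹ * z⁻¹ * g⁻¹⁻¹) * z⁻¹⁻¹)⁻¹ := by group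
    rw [e]
    exact inv_mem (hNn.conj_mem _ (hN g⁻¹) z⁻¹)
  exact Group.isSolvable_of_surjective
    (f := (Subgroup.centralizer ({(QuotientGroup.mk z : G ⧸ N)} : Set (G ⧸ N))).subtype)
    (fun x => ⟨⟨x, htop ▸ Subgroup.mem_top x⟩, rfl⟩)

theorem nonsolvable_case [Finite G] (h : PT G) (hns : ¬ Group.IsSolvable G) :
    ∃ n : ℕ, 2 ≤ n ∧
      Nonempty (G ≃* Matrix.ProjectiveSpecialLinearGroup (Fin 2) (GaloisField 2 n)) := by
  classical
  have : Fact (Nat.Prime 2) := ⟨Nat.prime_two⟩
  have heven : Even (Nat.card G) := by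
    by_contra hodd
    exact hns (Cfsg.Agent.S0183.result (Nat.not_even_iff_odd.mp hodd) h.cn)
  obtain ⟨T⟩ : Nonempty (Sylow 2 G) := inferInstance
  obtain ⟨z, hzT', hz2, hzT⟩ := exists_central_invol heven T
  have hz1 : z ≠ 1 := by
    intro hh
    rw [hh, orderOf_one] at hz2
    omega
  have hzz : z * z = 1 := by
    rw [← sq, ← hz2, pow_orderOf_eq_one]
  have hTA : (T : Subgroup G) ≤ Subgroup.centralizer ({z} : Set G) := by
    intro s hs
    exact Subgroup.mem_centralizer_singleton_iff.mpr (hzT s hs).symm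
  have hccs : CCS (Subgroup.centralizer ({z} : Set G)) z :=
    { cc := ccs_cc h T hz2 hzT
      zA := Subgroup.mem_centralizer_singleton_iff.mpr rfl
      z1 := hz1
      zz := hzz
      zc := fun a ha => (Subgroup.mem_centralizer_singleton_iff.mp ha).symm
      nn := ccs_nn h hns T hz1 hzT }
  have h2 := ccs_h2 h hns T hz2 hzT' hzT
  have hZ := hccs.zassenhaus h2 (hccs.no_complement h2)
  rcases hccs.feit h2 hZ with hel | ⟨hA2, hna⟩
  · obtain ⟨t, htA, ht1, htt, htz⟩ := h2
    have hAT : Subgroup.centralizer ({z} : Set G) ≤ T := by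
      intro a ha
      have hd : orderOf a ∣ 2 ^ 1 := orderOf_dvd_of_pow_eq_one (by rw [pow_one, sq]; exact hel a ha)
      obtain ⟨k, -, hk⟩ := (Nat.dvd_prime_pow Nat.prime_two).mp hd
      exact Cfsg.Agent.Lib.Helper25.mem_sylow_of_mem_nilpotent (h.cn z hz1) 2 T hTA ha k hk
    have hTeq : (T : Subgroup G) = Subgroup.centralizer ({z} : Set G) := le_antisymm hTA hAT
    have hnc : ¬ IsCyclic (T : Subgroup G) := by
      intro hc
      obtain ⟨g, hg⟩ := hc.exists_generator
      have hgg : g * g = 1 := Subtype.ext (hel g (hTA g.2))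
      have key : ∀ x : (T : Subgroup G), x = 1 ∨ x = g := by
        intro x
        obtain ⟨k, rfl⟩ := Subgroup.mem_zpowers_iff.mp (hg x)
        rcases Int.even_or_odd' k with ⟨m, rfl | rfl⟩
        · left; rw [zpow_mul, zpow_two, hgg, one_zpow]
        · right; rw [zpow_add, zpow_mul, zpow_two, hgg, one_zpow, one_mul, zpow_one]
      rcases key ⟨z, hzT'⟩ with h3 | h3
      · exact hz1 (congrArg Subtype.val h3)
      rcases key ⟨t, hAT htA⟩ with h4 | h4
      · exact ht1 (congrArg Subtype.val h4)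
      exact htz (congrArg Subtype.val (h4.trans h3.symm))
    have hnn : ¬ (T : Subgroup G).Normal := by
      intro hn
      obtain ⟨g, hg⟩ := hccs.nn
      apply hg
      rw [← hTeq, Subgroup.normalizer_eq_top_iff.mpr hn]
      trivial
    have hC : ∀ s : G, orderOf s = 2 → IsMulCommutative (Subgroup.centralizer ({s} : Set G)) ∧
        ∀ c ∈ Subgroup.centralizer ({s} : Set G), c ^ 2 = 1 := by
      intro s hs
      have hs1 : s ≠ 1 := by
        intro hh
        rw [hh, orderOf_one] at hs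
        omega
      have hss : s * s = 1 := by
        rw [← sq, ← hs, pow_orderOf_eq_one]
      obtain ⟨y, hy⟩ := hccs.exists_conj_mem hss
      have hy1 : y⁻¹ * s * y ≠ 1 := by
        intro hh
        apply hs1
        have : s = y * (y⁻¹ * s * y) * y⁻¹ := by group
        rw [this, hh]; group
      have hsq : ∀ c ∈ Subgroup.centralizer ({s} : Set G), c * c = 1 := by
        intro c hc
        have hcs := Subgroup.mem_centralizer_singleton_iff.mp hc
        have hcA : y⁻¹ * c * y ∈ Subgroup.centralizer ({z} : Set G) := by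
          apply hccs.cc _ hy hy1
          have e1 : y⁻¹ * c * y * (y⁻¹ * s * y) = y⁻¹ * (c * s) * y := by group
          have e2 : y⁻¹ * s * y * (y⁻¹ * c * y) = y⁻¹ * (s * c) * y := by group
          rw [e1, e2, hcs]
        have h5 := hel _ hcA
        have : c * c = y * (y⁻¹ * c * y * (y⁻¹ * c * y)) * y⁻¹ := by group
        rw [this, h5]; group
      refine ⟨⟨⟨fun c d => ?_⟩⟩, fun c hc => by rw [sq]; exact hsq c hc⟩
      apply Subtype.ext
      show (c : G) * d = d * c
      have hc := hsq c c.2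
      have hd := hsq d d.2
      have hcd := hsq _ (mul_mem c.2 d.2)
      calc (c : G) * d = ((c : G) * d)⁻¹ := (inv_eq_of_mul_eq_one_left hcd).symm
        _ = (d : G)⁻¹ * (c : G)⁻¹ := mul_inv_rev _ _
        _ = d * c := by rw [inv_eq_of_mul_eq_one_left hc, inv_eq_of_mul_eq_one_left hd]
    obtain ⟨F, iF, iFt, hF, ⟨e⟩⟩ := Cfsg.Agent.S1230.result T hnc hnn hC
    obtain ⟨n, hn⟩ := IsPGroup.iff_card.mp T.isPGroup'
    have hn2 : 2 ≤ n := by
      by_contra hcon
      push Not at hcon
      apply hnc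
      interval_cases n
      · rw [pow_zero] at hn
        have := (Nat.card_eq_one_iff_unique.mp hn).1
        infer_instance
      · rw [pow_one] at hn
        exact isCyclic_of_prime_card hn
    have : Fintype (GaloisField 2 n) := Fintype.ofFinite _
    obtain ⟨e'⟩ := Cfsg.Agent.Lib.Helper14.psl2_equiv_of_card_eq (K := F) (L := GaloisField 2 n) (by
      rw [hF, hn, ← Nat.card_eq_fintype_card, GaloisField.card 2 n (by omega)])
    exact ⟨n, hn2, ⟨e.trans e'⟩⟩
  · exfalso
    have : Fintype (G ⧸ HA (Subgroup.centralizer ({z} : Set G))) := Fintype.ofFinite _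
    obtain ⟨u, -, hu, huH⟩ := hccs.exists_invol_not_mem
    have hu1 : (QuotientGroup.mk 1 : G ⧸ HA (Subgroup.centralizer ({z} : Set G))) ≠
        QuotientGroup.mk u := fun hh => huH ((mk_eq_one_iff u).mp hh.symm)
    exact no_suz _ G rfl h hZ hu1 _ (fun t ht => hccs.A_fix ht)
      (by rw [hccs.card_cosets h2, Nat.card_eq_fintype_card])
      (fun t ht ht1 c hc => by
        by_contra hca
        exact ht1 (hccs.A_free ht c hca hc)) hA2 hna

end Cfsg.Agent.Lib.Helper71.TIC
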