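import Cfsg.Agent.Lib.Helper71.TICent1
import Cfsg.Agent.S1147
import Cfsg.Agent.S0339
import Cfsg.Agent.Lib.Helper6.ZasFeit2

set_option autoImplicit false

/-! # Groups all of whose element centralizers are T.I.: no Suzuki type Zassenhaus groups -/

namespace Cfsg.Agent.Lib.Helper71.TIC

open MulAction

/-- a group acting freely by conjugation on the non-identity elements of an invariant subgroup -/
theorem free_dvd {G : Type*} [Group G] [Finite G] (D X : Subgroup G)
    (hinv : ∀ d ∈ D, ∀ x ∈ X, d * x * d⁻¹ ∈ X)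
    (hfree : ∀ d ∈ D, ∀ x ∈ X, x ≠ 1 → d * x * d⁻¹ = x → d = 1) :
    Nat.card D ∣ Nat.card X - 1 := by
  classical
  let β := {x : G // x ∈ X ∧ x ≠ 1}
  let inst : MulAction D β :=
    { smul := fun d x => ⟨d * x.1 * (d : G)⁻¹, hinv d d.2 x.1 x.2.1, fun hh => x.2.2 (by
        have : x.1 = (d : G)⁻¹ * (d * x.1 * (d : G)⁻¹) * d := by group
        rw [this, hh]; group)⟩
      one_smul := fun x => Subtype.ext (by
        show ((1 : D) : G) * x.1 * ((1 : D) : G)⁻¹ = x.1
        simp)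
      mul_smul := fun d e x => Subtype.ext (by
        show ((d * e : D) : G) * x.1 * ((d * e : D) : G)⁻¹ = d * (e * x.1 * (e : G)⁻¹) * (d : G)⁻¹
        rw [Subgroup.coe_mul]; group) }
  have hst : ∀ b : β, MulAction.stabilizer D b = ⊥ := by
    intro b
    rw [eq_bot_iff]
    intro d hd
    rw [MulAction.mem_stabilizer_iff] at hd
    have h1 : (d : G) * b.1 * (d : G)⁻¹ = b.1 := congrArg Subtype.val hd
    exact Subgroup.mem_bot.mpr (Subtype.ext (hfree d d.2 b.1 b.2.1 b.2.2 h1))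
  have e := MulAction.selfEquivOrbitsQuotientProd hst
  have hX : Nat.card β = Nat.card X - 1 := by
    have e2 : β ≃ {w : X // w ≠ 1} :=
      { toFun := fun v => ⟨⟨v.1, v.2.1⟩, fun h => v.2.2 (congrArg Subtype.val h)⟩
        invFun := fun w => ⟨w.1.1, w.1.2, fun h => w.2 (Subtype.ext h)⟩
        left_inv := fun v => rfl
        right_inv := fun w => rfl }
    rw [Nat.card_congr e2]
    have : Fintype X := Fintype.ofFinite _
    rw [Nat.card_eq_fintype_card, Nat.card_eq_fintype_card, Fintype.card_subtype_compl]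
    simp
  rw [← hX, Nat.card_congr e, Nat.card_prod]
  exact Dvd.intro_left _ rfl

/-- arithmetic: no chain `1 < 2^j < 2^k < 2^(2n)` with `2^n - 1` dividing `2^j - 1` and `2^k - 1` -/
theorem arith {n j k : ℕ} (hn : 1 < n) (hj : 0 < j) (hjk : j < k) (hk : k < 2 * n)
    (h1 : 2 ^ n - 1 ∣ 2 ^ j - 1) (h2 : 2 ^ n - 1 ∣ 2 ^ k - 1) : False := by
  have hpos : ∀ m : ℕ, 1 ≤ 2 ^ m := fun m => Nat.one_le_two_pow
  have hnj : n ≤ j := by
    have h3 : 2 ^ n - 1 ≤ 2 ^ j - 1 := by
      apply Nat.le_of_dvd _ h1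
      have : 2 ^ 1 ≤ 2 ^ j := Nat.pow_le_pow_right (by norm_num) hj
      omega
    have h4 : 2 ^ n ≤ 2 ^ j := by
      have := hpos n
      have := hpos j
      omega
    exact (Nat.pow_le_pow_iff_right (by norm_num)).mp h4
  have h5 : 2 ^ n - 1 ∣ (2 ^ k - 1) - (2 ^ j - 1) := Nat.dvd_sub h2 h1
  have h6 : (2 ^ k - 1) - (2 ^ j - 1) = 2 ^ j * (2 ^ (k - j) - 1) := by
    have : 2 ^ k = 2 ^ j * 2 ^ (k - j) := by rw [← pow_add]; congr 1; omega
    rw [Nat.mul_sub, ← this, mul_one]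
    have := hpos j
    have := hpos k
    omega
  rw [h6] at h5
  have hodd : Nat.Coprime (2 ^ n - 1) (2 ^ j) := by
    apply Nat.Coprime.pow_right
    rw [Nat.coprime_two_right]
    have : 2 ^ n = 2 * 2 ^ (n - 1) := by rw [← pow_succ']; congr 1; omega
    have h7 := hpos (n - 1)
    exact ⟨2 ^ (n - 1) - 1, by omega⟩
  have h8 := hodd.dvd_of_dvd_mul_left h5
  have h9 : 2 ^ (k - j) < 2 ^ n := Nat.pow_lt_pow_right (by norm_num) (by omega)
  have h10 : 2 ^ 1 ≤ 2 ^ (k - j) := Nat.pow_le_pow_right (by norm_num) (by omega)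
  have := Nat.le_of_dvd (by omega) h8
  omega

open Cfsg.Agent.Lib.Helper6.Zas in
theorem no_suz_simple {G Ω : Type*} [Group G] [MulAction G Ω] [Finite G] [Fintype Ω] (hPT : PT G)
    (hZ : Cfsg.IsZassenhausGroup G Ω) [IsSimpleGroup G]
    {a b : Ω} (hab : a ≠ b) (H : Subgroup G) (hHa : H ≤ stabilizer G a)
    (hHcard : Nat.card H + 1 = Fintype.card Ω)
    (hHfix : ∀ u ∈ H, u ≠ 1 → ∀ c : Ω, u • c = c → c = a)
    (hH2 : IsPGroup 2 H) (hna : ∃ u v : H, u * v ≠ v * u) : False := by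
  classical
  have hb := base_of_zassenhaus hZ
  have hs := kernel_setup hb hab H hHa hHcard hHfix
  have hreg := kernel_regular H hHa hHcard hHfix
  obtain ⟨u, v, huv⟩ := hna
  obtain ⟨n, -, hn1, hΩ, -, hD, -⟩ := Cfsg.Agent.S1147.result hZ hab H hHa hs.normal hreg hH2
    ⟨u, u.2, v, v.2, fun hh => huv (Subtype.ext hh)⟩
  have hHc : Nat.card H = 2 ^ (2 * n) := by
    rw [Nat.card_eq_fintype_card] at hΩ
    omega
  have hfree : ∀ d ∈ stabilizer G a ⊓ stabilizer G b, ∀ x ∈ H, x ≠ 1 → d * x * d⁻¹ = x → d = 1 := by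
    intro d hd x hx hx1 hdx
    have hdH : d ∈ H := hs.cent x hx hx1 (Subgroup.mem_centralizer_singleton_iff.mpr
      (mul_inv_eq_iff_eq_mul.mp hdx))
    by_contra hd1
    exact hab (hHfix d hdH hd1 b hd.2).symm
  have hnorm : ∀ d ∈ stabilizer G a ⊓ stabilizer G b, ∀ x ∈ H, d * x * d⁻¹ ∈ H :=
    fun d hd x hx => hs.normal d hd.1 x hx
  have hnt : Nontrivial H := ⟨⟨u, v, fun hh => huv (by rw [hh])⟩⟩
  have : Fact (Nat.Prime 2) := ⟨Nat.prime_two⟩
  have hcen := hH2.center_nontrivial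
  obtain ⟨⟨w, hw⟩, hw1⟩ := exists_ne (1 : Subgroup.center H)
  have hw1' : (w : G) ≠ 1 := by
    intro hh
    apply hw1
    apply Subtype.ext
    apply Subtype.ext
    exact hh
  have hZinv : ∀ d ∈ stabilizer G a ⊓ stabilizer G b,
      ∀ x ∈ H ⊓ Subgroup.centralizer (H : Set G), d * x * d⁻¹ ∈ H ⊓ Subgroup.centralizer (H : Set G) := by
    intro d hd x hx
    refine Subgroup.mem_inf.mpr ⟨hnorm d hd x hx.1, ?_⟩
    rw [Subgroup.mem_centralizer_iff]
    intro y hy
    have hy' : d⁻¹ * y * d⁻¹⁻¹ ∈ H := hnorm d⁻¹ (inv_mem hd) y hy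
    have h1 := Subgroup.mem_centralizer_iff.mp hx.2 _ hy'
    have e1 : y * (d * x * d⁻¹) = d * (d⁻¹ * y * d⁻¹⁻¹ * x) * d⁻¹ := by group
    have e2 : d * x * d⁻¹ * y = d * (x * (d⁻¹ * y * d⁻¹⁻¹)) * d⁻¹ := by group
    rw [e1, e2, h1]
  have hwZ : (w : G) ∈ H ⊓ Subgroup.centralizer (H : Set G) := by
    refine Subgroup.mem_inf.mpr ⟨w.2, ?_⟩
    rw [Subgroup.mem_centralizer_iff]
    intro y hy
    exact congrArg Subtype.val (Subgroup.mem_center_iff.mp hw ⟨y, hy⟩)
  have hZu : ∀ x ∈ H ⊓ Subgroup.centralizer (H : Set G), Commute (u : G) x := by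
    intro x hx
    exact Subgroup.mem_centralizer_iff.mp hx.2 u u.2
  have hCinv : ∀ d ∈ stabilizer G a ⊓ stabilizer G b,
      ∀ x ∈ H ⊓ Subgroup.centralizer ({(u : G)} : Set G),
        d * x * d⁻¹ ∈ H ⊓ Subgroup.centralizer ({(u : G)} : Set G) := by
    intro d hd x hx
    refine Subgroup.mem_inf.mpr ⟨hnorm d hd x hx.1, ?_⟩
    rw [Subgroup.mem_centralizer_singleton_iff]
    exact (hPT u w d hw1' (hZu w hwZ) (hZu _ (hZinv d hd w hwZ)) x
      (Subgroup.mem_centralizer_singleton_iff.mp hx.2).symm).symm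
  obtain ⟨j, hj⟩ := IsPGroup.iff_card.mp (hH2.to_le (inf_le_left :
    H ⊓ Subgroup.centralizer (H : Set G) ≤ H))
  obtain ⟨k, hk⟩ := IsPGroup.iff_card.mp (hH2.to_le (inf_le_left :
    H ⊓ Subgroup.centralizer ({(u : G)} : Set G) ≤ H))
  have hj0 : 0 < j := by
    rcases Nat.eq_zero_or_pos j with h0 | h0
    · rw [h0, pow_zero] at hj
      have := Subgroup.card_eq_one.mp hj
      rw [this] at hwZ
      exact (hw1' (Subgroup.mem_bot.mp hwZ)).elim
    · exact h0
  have hjk : j < k := by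
    by_contra hcon
    push Not at hcon
    have hle : H ⊓ Subgroup.centralizer (H : Set G) ≤ H ⊓ Subgroup.centralizer ({(u : G)} : Set G) := by
      intro x hx
      exact ⟨hx.1, Subgroup.mem_centralizer_singleton_iff.mpr (hZu x hx).symm⟩
    have heq := Subgroup.eq_of_le_of_card_ge hle (by
      rw [hj, hk]; exact Nat.pow_le_pow_right (by norm_num) hcon)
    have hu : (u : G) ∈ H ⊓ Subgroup.centralizer ({(u : G)} : Set G) :=
      ⟨u.2, Subgroup.mem_centralizer_singleton_iff.mpr rfl⟩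
    rw [← heq] at hu
    exact huv (Subtype.ext (Subgroup.mem_centralizer_iff.mp hu.2 v v.2).symm)
  have hk2 : k < 2 * n := by
    by_contra hcon
    push Not at hcon
    have heq := Subgroup.eq_of_le_of_card_ge (inf_le_left :
      H ⊓ Subgroup.centralizer ({(u : G)} : Set G) ≤ H) (by
      rw [hHc, hk]; exact Nat.pow_le_pow_right (by norm_num) hcon)
    have hv : (v : G) ∈ H ⊓ Subgroup.centralizer ({(u : G)} : Set G) := by
      rw [heq]; exact v.2
    exact huv (Subtype.ext (Subgroup.mem_centralizer_singleton_iff.mp hv.2).symm)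
  have h1 := free_dvd _ _ hZinv (fun d hd x hx => hfree d hd x hx.1)
  have h2 := free_dvd _ _ hCinv (fun d hd x hx => hfree d hd x hx.1)
  rw [hD, hj] at h1
  rw [hD, hk] at h2
  exact arith hn1 hj0 hjk hk2 h1 h2

universe u v

open Cfsg.Agent.Lib.Helper6.Zas in
theorem no_suz {Ω : Type v} [Fintype Ω] (n : ℕ) :
    ∀ (G : Type u) [Group G] [Finite G] [MulAction G Ω], Nat.card G = n → PT G →
    Cfsg.IsZassenhausGroup G Ω → ∀ {a b : Ω}, a ≠ b →
    ∀ (H : Subgroup G), H ≤ stabilizer G a → Nat.card H + 1 = Fintype.card Ω →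
    (∀ u ∈ H, u ≠ 1 → ∀ c : Ω, u • c = c → c = a) →
    IsPGroup 2 H → (∃ u v : H, u * v ≠ v * u) → False := by
  induction n using Nat.strong_induction_on with
  | _ n ih =>
    intro G _ _ _ hn hPT hZ a b hab H hHa hHcard hHfix hH2 hna
    by_cases hsimple : IsSimpleGroup G
    · exact no_suz_simple hPT hZ hab H hHa hHcard hHfix hH2 hna
    have hb := base_of_zassenhaus hZ
    obtain ⟨N, hNn, hNbot, hNtop⟩ : ∃ N : Subgroup G, N.Normal ∧ N ≠ ⊥ ∧ N ≠ ⊤ := by
      by_contra hcon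
      push Not at hcon
      apply hsimple
      obtain ⟨g, hg, -⟩ := hZ.2.2.2.1
      have : Nontrivial G := ⟨⟨g, 1, hg⟩⟩
      exact ⟨fun N hN => or_iff_not_imp_left.2 (hcon N hN)⟩
    have hZN : Cfsg.IsZassenhausGroup N Ω := Cfsg.Agent.S0339.result hZ N hNbot
    obtain ⟨HN, hHNa, -, hHNcard, hHNfix⟩ := exists_kernel hZN hab
    have hlt : Nat.card N < n := by
      rw [← hn]
      refine lt_of_le_of_ne (Subgroup.card_le_card_group N) ?_
      intro h1
      exact hNtop (Subgroup.eq_top_of_card_eq N h1)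
    have hmap : HN.map N.subtype = H := by
      apply Subgroup.eq_of_le_of_card_ge
      · rintro _ ⟨x, hx, rfl⟩
        by_cases hx1 : x = 1
        · rw [hx1]; exact H.one_mem
        · apply mem_kernel hb hab H hHa hHcard hHfix
          · exact hHNa hx
          · exact hHNfix x hx hx1
      · rw [Subgroup.card_map_of_injective N.subtype_injective]
        omega
    let φ : HN ≃* H := (Subgroup.equivMapOfInjective HN N.subtype
        N.subtype_injective).trans (MulEquiv.subgroupCongr hmap)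
    refine ih _ hlt N rfl (hPT.subgroup N) hZN hab HN hHNa hHNcard hHNfix (hH2.of_equiv φ.symm) ?_
    obtain ⟨u, v, huv⟩ := hna
    refine ⟨φ.symm u, φ.symm v, fun hh => huv ?_⟩
    apply φ.symm.injective
    rw [map_mul, map_mul, hh]

end Cfsg.Agent.Lib.Helper71.TIC
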